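import Mathlib
import Cfsg.Prelude.Def_FusionSystem
import Cfsg.Agent.Lib.Helper25.Fusion

/-!
# S5293 (design helper3): `foc(C_F(T)) ≤ C_S(E)` for `E ⊴ F` on `T` — definitions

`ExtFix F X P φ`: the map `φ : P →* Ω` extends to a map of `F` on `P ⊔ X` fixing `X` elementwise
(the last clause of `FusionSystem.centralizerHom`).
`focC F Q`: the focal subgroup of `C_F(Q)`, written directly with `centralizerHom`.
`zOf R = R ⊓ C(R)`: the centre of `R` inside `Ω`.
`LiftZ F R η`: `η ∈ Aut(R)` has an extension `β ∈ Aut_F(R C_S(R))` with `[C_S(R), β] ≤ Z(R)`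
(the shape of the extension condition in `FusionSystem.IsNormalIn`, with `R` for `T`).
`bGrp E T R`: the normal closure of `Aut_T(R)` in `Aut_E(R)`, as a subgroup of `MulAut R`.

PLAN of the proof (file `CSEMain.lean`): `X₀ = focC F T`; every map `φ ∈ E.Hom P` satisfies
`ExtFix F X₀ P φ` (Alperin induction in `E` + induction on `|T : P|`); hence `X₀` belongs to the set
whose `sSup` is `C` in the statement.
-/

set_option autoImplicit false

namespace Cfsg.Agent.Helper3.CSE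

open Cfsg Cfsg.FusionSystem

variable {Ω : Type*} [Group Ω] {S : Subgroup Ω}

/-- `φ` extends to `P ⊔ X` by a map of `F` fixing `X` elementwise. -/
def ExtFix (F : FusionSystem S) (X P : Subgroup Ω) (φ : P →* Ω) : Prop :=
  ∃ ψ ∈ F.Hom (P ⊔ X), (∀ x : P, ψ (Subgroup.inclusion le_sup_left x) = φ x) ∧
    ∀ x : X, ψ (Subgroup.inclusion le_sup_right x) = x

/-- The focal subgroup of the centralizer system `C_F(Q)`. -/
def focC (F : FusionSystem S) (Q : Subgroup Ω) : Subgroup Ω :=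
  Subgroup.closure {y : Ω | ∃ (P : Subgroup Ω) (φ : P →* Ω) (x : P),
    φ ∈ F.centralizerHom Q P ∧ y = (x : Ω)⁻¹ * φ x}

/-- `Z(R)` inside the ambient group. -/
def zOf (R : Subgroup Ω) : Subgroup Ω := R ⊓ Subgroup.centralizer (R : Set Ω)

/-- `η` has an extension `β ∈ Aut_F(R C_S(R))` with `c⁻¹ β(c) ∈ Z(R)` for all `c ∈ C_S(R)`. -/
def LiftZ (F : FusionSystem S) (R : Subgroup Ω) (η : MulAut R) : Prop :=
  ∃ β ∈ F.autGroup (R ⊔ centralizerIn S R),
    (∀ x : R, ((β (Subgroup.inclusion le_sup_left x) : ↥(R ⊔ centralizerIn S R)) : Ω) =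
      ((η x : R) : Ω)) ∧
    ∀ c : ↥(R ⊔ centralizerIn S R), (c : Ω) ∈ centralizerIn S R →
      (c : Ω)⁻¹ * ((β c : ↥(R ⊔ centralizerIn S R)) : Ω) ∈ zOf R

/-- The normal closure of `Aut_T(R)` in `Aut_E(R)`, inside `MulAut R`. -/
def bGrp {T : Subgroup Ω} (E : FusionSystem T) (R : Subgroup Ω) : Subgroup (MulAut R) :=
  Subgroup.closure {ζ : MulAut R | ∃ ξ ∈ E.autGroup R, ∃ α ∈ autInducedBy T R, ζ = ξ * α * ξ⁻¹}

theorem zOf_le (R : Subgroup Ω) : zOf R ≤ R := inf_le_left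

theorem zOf_le_centralizerIn {R : Subgroup Ω} (hRS : R ≤ S) : zOf R ≤ centralizerIn S R :=
  fun _ hx => ⟨hRS hx.1, hx.2⟩

end Cfsg.Agent.Helper3.CSE
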