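import Mathlib
import Cfsg.Agent.Lib.CSE.CSEDefs
import Cfsg.Agent.Lib.Helper25.FusionSat
import Cfsg.Agent.Lib.Helper25.FusionMorph

/-!
# S5293 piece CSE-EXTQ: automorphisms of a receptive `R` extend to automorphisms of `R C_S(R)`
RECIPE.  `φ := R.subtype.comp ξ.toMonoidHom ∈ F.Hom R` (`Helper25.mem_autGroup_iff`), `φ.range = R`.
Receptivity gives `ψ ∈ F.Hom (extender S R φ)` agreeing with `φ` on `R`;
`R ≤ extender` (`Helper25.le_extender`) and `C_S(R) ≤ extender` (`Helper25.centralizerIn_le_extender`),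
so restrict `ψ` to `Q := R ⊔ C_S(R)` (`Helper25.restrict_mem`).  `ψ` maps `R` onto `R`, and
`C_S(R)` into `C_S(R)` (values in `S`, centralizing `ψ R = R`), hence `Q` into `Q`; injective + finite
gives `range = Q`; `Helper25.aut_of_range_eq` (FusionMorph) yields `β ∈ F.autGroup Q` with
`(β z : Ω) = ψ z`.  (`Helper3.KL.exists_aut_sup` in `Lib/Helper3/KLQuot` does the last step in one go
if you prefer to import it.)  Aux names: prefix `cseextq_`.
-/

set_option autoImplicit false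

namespace Cfsg.Agent.Helper3.CSE

open Cfsg Cfsg.FusionSystem Cfsg.Agent.Helper25

variable {Ω : Type*} [Group Ω] {S : Subgroup Ω}

theorem cseextq_sup_mem {P Q : Subgroup Ω} (φ : ↥(P ⊔ Q) →* Ω) (D : Subgroup Ω)
    (hP : ∀ (a : Ω) (ha : a ∈ P), φ ⟨a, (le_sup_left : P ≤ P ⊔ Q) ha⟩ ∈ D)
    (hQ : ∀ (b : Ω) (hb : b ∈ Q), φ ⟨b, (le_sup_right : Q ≤ P ⊔ Q) hb⟩ ∈ D) (x : ↥(P ⊔ Q)) :
    φ x ∈ D := by
  have h : (⊤ : Subgroup ↥(P ⊔ Q)) ≤ D.comap φ := by
    rw [← Subgroup.subgroupOf_self (P ⊔ Q), Subgroup.subgroupOf_sup le_sup_left le_sup_right]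
    refine sup_le ?_ ?_
    · intro y hy
      exact hP y.1 (Subgroup.mem_subgroupOf.mp hy)
    · intro y hy
      exact hQ y.1 (Subgroup.mem_subgroupOf.mp hy)
  exact h (Subgroup.mem_top x)

theorem exists_ext_rc [Finite S] (F : FusionSystem S) {R : Subgroup Ω} (hR : F.IsReceptive R)
    (ξ : MulAut R) (hξ : ξ ∈ F.autGroup R) :
    ∃ β ∈ F.autGroup (R ⊔ centralizerIn S R), ∀ x : R,
      ((β (Subgroup.inclusion le_sup_left x) : ↥(R ⊔ centralizerIn S R)) : Ω) = ((ξ x : R) : Ω) := by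
  have hRS : R ≤ S := hR.1
  have hCS : centralizerIn S R ≤ S := fun c hc => (mem_centralizerIn.1 hc).1
  have hQS : R ⊔ centralizerIn S R ≤ S := sup_le hRS hCS
  have hφ : R.subtype.comp ξ.toMonoidHom ∈ F.Hom R := (mem_autGroup_iff F hRS ξ).1 hξ
  have hφr : (R.subtype.comp ξ.toMonoidHom).range = R := by
    ext y; constructor
    · rintro ⟨x, rfl⟩; exact (ξ x).2
    · intro hy
      refine ⟨ξ.symm ⟨y, hy⟩, ?_⟩
      show ((ξ (ξ.symm ⟨y, hy⟩) : R) : Ω) = y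
      rw [MulEquiv.apply_symm_apply]
  obtain ⟨ψ0, hψ0, hag⟩ := hR.2 R _ hφ hφr
  have hQle : R ⊔ centralizerIn S R ≤ extender S R (R.subtype.comp ξ.toMonoidHom) :=
    sup_le (le_extender F hφ) (centralizerIn_le_extender _)
  have hψ : ψ0.comp (Subgroup.inclusion hQle) ∈ F.Hom (R ⊔ centralizerIn S R) := restrict_mem F hQle hψ0
  have hψR : ∀ (x : Ω) (hx : x ∈ R),
      (ψ0.comp (Subgroup.inclusion hQle)) ⟨x, le_sup_left (b := centralizerIn S R) hx⟩ = ((ξ ⟨x, hx⟩ : R) : Ω) := by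
    intro x hx
    exact hag x hx (hQle ((le_sup_left : R ≤ R ⊔ centralizerIn S R) hx))
  have hψC : ∀ (c : Ω) (hc : c ∈ centralizerIn S R),
      (ψ0.comp (Subgroup.inclusion hQle)) ⟨c, le_sup_right (a := R) hc⟩ ∈ centralizerIn S R := by
    intro c hc
    rw [mem_centralizerIn]
    refine ⟨(F.le_of_mem hψ).2 _, ?_⟩
    intro r hr
    -- r = ψ r' with r' = ξ⁻¹ r
    have hr' := hψR (ξ.symm ⟨r, hr⟩ : R).1 (ξ.symm ⟨r, hr⟩ : R).2
    have e1 : ((ξ ⟨(ξ.symm ⟨r, hr⟩ : R).1, (ξ.symm ⟨r, hr⟩ : R).2⟩ : R) : Ω) = r := by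
      show ((ξ (ξ.symm ⟨r, hr⟩) : R) : Ω) = r
      rw [MulEquiv.apply_symm_apply]
    rw [e1] at hr'
    rw [← hr', ← map_mul, ← map_mul]
    congr 1
    apply Subtype.ext
    show ((ξ.symm ⟨r, hr⟩ : R) : Ω) * c = c * ((ξ.symm ⟨r, hr⟩ : R) : Ω)
    exact (mem_centralizerIn.1 hc).2 _ (ξ.symm ⟨r, hr⟩ : R).2
  have hψQ : ∀ z : ↥(R ⊔ centralizerIn S R), (ψ0.comp (Subgroup.inclusion hQle)) z ∈ R ⊔ centralizerIn S R := by
    apply cseextq_sup_mem _ (R ⊔ centralizerIn S R)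
    · intro a ha
      rw [hψR a ha]
      exact le_sup_left (b := centralizerIn S R) (ξ ⟨a, ha⟩).2
    · intro b hb
      exact le_sup_right (a := R) (hψC b hb)
  haveI : Finite ↥(R ⊔ centralizerIn S R) :=
    Finite.of_injective (Subgroup.inclusion hQS) (Subgroup.inclusion_injective _)
  have hrange : (ψ0.comp (Subgroup.inclusion hQle)).range = R ⊔ centralizerIn S R := by
    have hle : (ψ0.comp (Subgroup.inclusion hQle)).range ≤ R ⊔ centralizerIn S R := by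
      rintro _ ⟨z, rfl⟩; exact hψQ z
    apply Subgroup.eq_of_le_of_card_ge hle
    have hinj : Function.Injective (ψ0.comp (Subgroup.inclusion hQle)) := F.injective_of_mem hψ
    rw [Nat.card_congr (MonoidHom.ofInjective hinj).toEquiv.symm]
  obtain ⟨β, hβ, hβv⟩ := aut_of_range_eq F hψ hrange
  refine ⟨β, hβ, fun x => ?_⟩
  rw [hβv]
  exact hψR x.1 x.2

end Cfsg.Agent.Helper3.CSE
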