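import Mathlib
import Cfsg.Agent.Lib.CSE.CSEDefs

/-!
# S5293 piece CSE-BASIC: two small facts
RECIPES.  `autGroup_le_of_subsystem`: `Helper25.mem_autGroup_iff` on both sides (`R ≤ T`,
`R ≤ S`), then `hEF R`.
`card_lt_normalizerIn`: a proper subgroup of a finite `p`-group is properly contained in its
normalizer (work in the group `↥T` with `H := R.subgroupOf T`: `IsPGroup.isNilpotent`,
`normalizerCondition_of_isNilpotent`, so `H < H.normalizer`; then
`Nat.card H < Nat.card H.normalizer` (`Subgroup.card_lt_card_of_lt`...) and transport the two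
cardinalities to `R` and `normalizerIn T R = T ⊓ normalizer R` (`Subgroup.subgroupOf` equivalences:
`Subgroup.subgroupOfEquivOfLe`, or an explicit `Nat.card_congr`).  Aux names: prefix `csebasic_`.
-/

set_option autoImplicit false

namespace Cfsg.Agent.Helper3.CSE

open Cfsg Cfsg.FusionSystem Cfsg.Agent.Helper25

variable {Ω : Type*} [Group Ω] {S : Subgroup Ω}

theorem autGroup_le_of_subsystem {T : Subgroup Ω} (E : FusionSystem T) (F : FusionSystem S)
    (hEF : E.IsSubsystemOf F) (hTS : T ≤ S) {R : Subgroup Ω} (hRT : R ≤ T) :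
    E.autGroup R ≤ F.autGroup R := by
  intro α hα
  have h1 := (mem_autGroup_iff E hRT α).1 hα
  exact (mem_autGroup_iff F (hRT.trans hTS) α).2 (hEF R h1)

theorem card_lt_normalizerIn {T R : Subgroup Ω} [Finite T] (p : ℕ) [Fact p.Prime]
    (hT : IsPGroup p T) (hRT : R ≤ T) (hne : R ≠ T) :
    Nat.card R < Nat.card (normalizerIn T R) := by
  have hnil : Group.IsNilpotent ↥T := hT.isNilpotent
  have hNC : NormalizerCondition ↥T := Group.normalizerCondition_of_isNilpotent
  have hlt : R.subgroupOf T < ⊤ := by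
    rw [lt_top_iff_ne_top]
    intro h
    rw [Subgroup.subgroupOf_eq_top] at h
    exact hne (le_antisymm hRT h)
  have h2 := hNC _ hlt
  obtain ⟨x, hxN, hxH⟩ := SetLike.exists_of_lt h2
  -- `x` normalizes `R`
  have hxnorm : (x : Ω) ∈ Subgroup.normalizer (R : Set Ω) := by
    rw [Subgroup.mem_normalizer_iff]
    rw [Subgroup.mem_normalizer_iff] at hxN
    intro r
    constructor
    · intro hr
      have := (hxN ⟨r, hRT hr⟩).1 (Subgroup.mem_subgroupOf.2 hr)
      rw [Subgroup.mem_subgroupOf] at this
      simpa using this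
    · intro hr
      have hrT : r ∈ T := by
        have h3 : (x : Ω)⁻¹ * ((x : Ω) * r * (x : Ω)⁻¹) * (x : Ω) ∈ T :=
          mul_mem (mul_mem (inv_mem x.2) (hRT hr)) x.2
        have e : (x : Ω)⁻¹ * ((x : Ω) * r * (x : Ω)⁻¹) * (x : Ω) = r := by group
        rwa [e] at h3
      have := (hxN ⟨r, hrT⟩).2 (by
        rw [Subgroup.mem_subgroupOf]
        simpa using hr)
      rw [Subgroup.mem_subgroupOf] at this
      simpa using this
  have hxmem : (x : Ω) ∈ normalizerIn T R := Subgroup.mem_inf.2 ⟨x.2, hxnorm⟩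
  have hxR : (x : Ω) ∉ R := by
    intro h
    exact hxH (Subgroup.mem_subgroupOf.2 h)
  have hle : R ≤ normalizerIn T R := le_inf hRT Subgroup.le_normalizer
  have hfin : Finite ↥(normalizerIn T R) :=
    Finite.of_injective (Subgroup.inclusion (inf_le_left : normalizerIn T R ≤ T))
      (Subgroup.inclusion_injective _)
  by_contra hcon
  rw [not_lt] at hcon
  have := Subgroup.eq_of_le_of_card_ge hle hcon
  rw [← this] at hxmem
  exact hxR hxmem

end Cfsg.Agent.Helper3.CSE
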