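import Mathlib
import Cfsg.Agent.Lib.CSE.CSEDefs
import Cfsg.Agent.Lib.CSE.CSEExtQ

/-!
# S5293 piece CSE-LZCONJ: `LiftZ F R` is invariant under conjugation by `Aut_F(R)` (`R` receptive)
RECIPE.  `exists_ext_rc` gives `ξ̂ ∈ F.autGroup Q` (`Q := R ⊔ C_S(R)`) extending `ξ`.  With `β` a
witness for `η`, take `ξ̂ * β * ξ̂⁻¹ ∈ F.autGroup Q`.  It extends `ξ * η * ξ⁻¹` (all three maps
preserve `R`).  `ξ̂` and `ξ̂⁻¹` map `C := C_S(R)` into itself (values in `Q ≤ S`, centralizing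
`ξ̂ R = R`; for the inverse use injectivity as in CSE-LZGRP) and map `zOf R` onto itself.  For
`c ∈ C`: `c' := ξ̂⁻¹ c ∈ C`, `β c' = c' * z`, `ξ̂ (c' * z) = c * ξ̂ z`, so
`c⁻¹ * (ξ̂ β ξ̂⁻¹) c = ξ̂ z ∈ zOf R`.  Aux names: prefix `cselzconj_`.
-/

set_option autoImplicit false

namespace Cfsg.Agent.Helper3.CSE

open Cfsg Cfsg.FusionSystem Cfsg.Agent.Helper25

variable {Ω : Type*} [Group Ω] {S : Subgroup Ω}

/-- an automorphism of `R C_S(R)` restricting to an automorphism of `R` maps `C_S(R)` into itself -/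
theorem cselzconj_maps_cent {R : Subgroup Ω} (hRS : R ≤ S)
    (Y : MulAut ↥(R ⊔ centralizerIn S R)) (ζ : MulAut R)
    (hY : ∀ x : R, ((Y (Subgroup.inclusion le_sup_left x) : ↥(R ⊔ centralizerIn S R)) : Ω) =
      ((ζ x : R) : Ω))
    (c : ↥(R ⊔ centralizerIn S R)) (hc : (c : Ω) ∈ centralizerIn S R) :
    ((Y c : ↥(R ⊔ centralizerIn S R)) : Ω) ∈ centralizerIn S R := by
  have hQS : R ⊔ centralizerIn S R ≤ S := sup_le hRS inf_le_left
  refine Subgroup.mem_inf.2 ⟨hQS (Y c).2, ?_⟩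
  rw [Subgroup.mem_centralizer_iff]
  intro r hr
  have hr' : Y (Subgroup.inclusion le_sup_left (ζ⁻¹ ⟨r, hr⟩)) =
      (⟨r, Subgroup.mem_sup_left hr⟩ : ↥(R ⊔ centralizerIn S R)) := by
    apply Subtype.ext
    rw [hY, MulAut.apply_inv_self]
  have hcomm : Subgroup.inclusion le_sup_left (ζ⁻¹ ⟨r, hr⟩) * c =
      c * Subgroup.inclusion le_sup_left (ζ⁻¹ ⟨r, hr⟩) := by
    apply Subtype.ext
    have := (Subgroup.mem_centralizer_iff.1 (Subgroup.mem_inf.1 hc).2) ((ζ⁻¹ ⟨r, hr⟩ : R) : Ω)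
      (ζ⁻¹ ⟨r, hr⟩).2
    simpa using this
  have h := congrArg Y hcomm
  rw [map_mul, map_mul, hr'] at h
  have h' := congrArg Subtype.val h
  simpa using h'

/-- an automorphism of `R C_S(R)` restricting to an automorphism of `R` maps `Z(R)` into itself -/
theorem cselzconj_maps_zOf {R : Subgroup Ω} (hRS : R ≤ S)
    (Y : MulAut ↥(R ⊔ centralizerIn S R)) (ζ : MulAut R)
    (hY : ∀ x : R, ((Y (Subgroup.inclusion le_sup_left x) : ↥(R ⊔ centralizerIn S R)) : Ω) =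
      ((ζ x : R) : Ω))
    (z : ↥(R ⊔ centralizerIn S R)) (hz : (z : Ω) ∈ zOf R) :
    ((Y z : ↥(R ⊔ centralizerIn S R)) : Ω) ∈ zOf R := by
  have hz1 : (z : Ω) ∈ R := (Subgroup.mem_inf.1 hz).1
  have hz2 : (z : Ω) ∈ Subgroup.centralizer (R : Set Ω) := (Subgroup.mem_inf.1 hz).2
  have hzC : (z : Ω) ∈ centralizerIn S R := Subgroup.mem_inf.2 ⟨hRS hz1, hz2⟩
  refine Subgroup.mem_inf.2 ⟨?_, (Subgroup.mem_inf.1 (cselzconj_maps_cent hRS Y ζ hY z hzC)).2⟩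
  have e : z = Subgroup.inclusion le_sup_left (⟨(z : Ω), hz1⟩ : R) := Subtype.ext rfl
  rw [e, hY]
  exact (ζ _).2

theorem liftZ_conj [Finite S] (F : FusionSystem S) {R : Subgroup Ω} (hR : F.IsReceptive R)
    {ξ η : MulAut R} (hξ : ξ ∈ F.autGroup R) (hη : LiftZ F R η) :
    LiftZ F R (ξ * η * ξ⁻¹) := by
  obtain ⟨β, hβ, hβ1, hβ2⟩ := hη
  obtain ⟨X, hX, hX1⟩ := exists_ext_rc F hR ξ hξ
  have hRS : R ≤ S := hR.1
  -- `X⁻¹` extends `ξ⁻¹`
  have hXinv' : ∀ x : R, X⁻¹ (Subgroup.inclusion le_sup_left x) =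
      Subgroup.inclusion le_sup_left (ξ⁻¹ x) := by
    intro x
    have h1 : X (Subgroup.inclusion le_sup_left (ξ⁻¹ x)) = Subgroup.inclusion le_sup_left x := by
      apply Subtype.ext
      rw [hX1, MulAut.apply_inv_self]
      rfl
    rw [← h1, MulAut.inv_apply_self]
  have hXinv : ∀ x : R, ((X⁻¹ (Subgroup.inclusion le_sup_left x) :
      ↥(R ⊔ centralizerIn S R)) : Ω) = ((ξ⁻¹ x : R) : Ω) := by
    intro x
    rw [hXinv']
    rfl
  refine ⟨X * β * X⁻¹, mul_mem (mul_mem hX hβ) (inv_mem hX), ?_, ?_⟩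
  · intro x
    have e2 : β (Subgroup.inclusion le_sup_left (ξ⁻¹ x)) =
        Subgroup.inclusion le_sup_left (η (ξ⁻¹ x)) := by
      apply Subtype.ext
      rw [hβ1]
      rfl
    rw [MulAut.mul_apply, MulAut.mul_apply, hXinv', e2, hX1, MulAut.mul_apply, MulAut.mul_apply]
  · intro c hc
    have hc' := cselzconj_maps_cent hRS X⁻¹ ξ⁻¹ hXinv c hc
    have hz := hβ2 (X⁻¹ c) hc'
    have hz' : (((X⁻¹ c)⁻¹ * β (X⁻¹ c) : ↥(R ⊔ centralizerIn S R)) : Ω) ∈ zOf R := by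
      simpa using hz
    have h3 := cselzconj_maps_zOf hRS X ξ hX1 _ hz'
    have e : X ((X⁻¹ c)⁻¹ * β (X⁻¹ c)) = c⁻¹ * (X * β * X⁻¹) c := by
      rw [map_mul, map_inv, MulAut.apply_inv_self, MulAut.mul_apply, MulAut.mul_apply]
    rw [e] at h3
    simpa using h3

end Cfsg.Agent.Helper3.CSE
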