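import Mathlib
import Cfsg.Agent.Lib.CSE.CSEDefs

/-!
# S5293 piece CSE-LZGRP: `LiftZ F R` is closed under `1`, `*`, `⁻¹`
Notation: `Q := R ⊔ C_S(R)`, `C := C_S(R)`.  A witness `β` of `LiftZ F R η` maps `R` onto `R` by `η`
(first clause), hence maps `zOf R = Z(R)` onto itself (an automorphism of `R` preserves its centre:
`z ∈ R` commuting with all of `R`, apply `η`), and maps `C` into `C` (`β c = c * z`, `z ∈ zOf R ≤ C`,
`zOf_le_centralizerIn hRS`).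
RECIPES.  `liftZ_one`: `β := 1`, `c⁻¹ * c = 1`.
`liftZ_mul`: `β := β₁ * β₂`; `β₂ c = c * z₂`, `β₁ (c * z₂) = β₁ c * β₁ z₂`,
`c⁻¹ * β₁ c ∈ zOf R`, `β₁ z₂ ∈ zOf R`.
`liftZ_inv`: `β⁻¹`; for `c ∈ C` put `c' := β⁻¹ c`; `c' ∈ C`: it lies in `Q ≤ S` and for `r ∈ R`,
`β (c' r c'⁻¹) = c (β r) c⁻¹ = β r`, injectivity; then `c = β c' = c' * z'`, so
`c⁻¹ * c' = z'⁻¹ ∈ zOf R`.  Aux names: prefix `cselzgrp_`.
-/

set_option autoImplicit false

namespace Cfsg.Agent.Helper3.CSE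

open Cfsg Cfsg.FusionSystem Cfsg.Agent.Helper25

variable {Ω : Type*} [Group Ω] {S : Subgroup Ω}

theorem cselzgrp_sup_le {R : Subgroup Ω} (hRS : R ≤ S) : R ⊔ centralizerIn S R ≤ S :=
  sup_le hRS (fun _ hx => (mem_centralizerIn.1 hx).1)

theorem cselzgrp_zOf_map {R : Subgroup Ω} (η : MulAut R) {z : R} (hz : (z : Ω) ∈ zOf R) :
    ((η z : R) : Ω) ∈ zOf R := by
  refine ⟨(η z).2, ?_⟩
  show ((η z : R) : Ω) ∈ Subgroup.centralizer (R : Set Ω)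
  rw [Subgroup.mem_centralizer_iff]
  intro r hr
  have hzc : ∀ y : R, y * z = z * y := by
    intro y
    apply Subtype.ext
    exact (Subgroup.mem_centralizer_iff.1 hz.2) y y.2
  have h := hzc (η.symm ⟨r, hr⟩)
  have h2 := congrArg η h
  rw [map_mul, map_mul, MulEquiv.apply_symm_apply] at h2
  exact congrArg Subtype.val h2

theorem cselzgrp_beta_zOf {R : Subgroup Ω} {η : MulAut R}
    {β : MulAut ↥(R ⊔ centralizerIn S R)}
    (h1 : ∀ x : R, ((β (Subgroup.inclusion le_sup_left x) : ↥(R ⊔ centralizerIn S R)) : Ω) =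
      ((η x : R) : Ω))
    {z : ↥(R ⊔ centralizerIn S R)} (hz : (z : Ω) ∈ zOf R) :
    ((β z : ↥(R ⊔ centralizerIn S R)) : Ω) ∈ zOf R := by
  have e : z = Subgroup.inclusion le_sup_left (⟨(z : Ω), hz.1⟩ : R) := Subtype.ext rfl
  rw [e, h1]
  exact cselzgrp_zOf_map η (z := ⟨(z : Ω), hz.1⟩) hz

theorem liftZ_one (F : FusionSystem S) {R : Subgroup Ω} (hRS : R ≤ S) : LiftZ F R 1 := by
  refine ⟨1, one_mem _, fun x => rfl, fun c _ => ?_⟩
  show (c : Ω)⁻¹ * (c : Ω) ∈ zOf R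
  rw [inv_mul_cancel]
  exact one_mem _

theorem liftZ_mul (F : FusionSystem S) {R : Subgroup Ω} (hRS : R ≤ S) {η₁ η₂ : MulAut R}
    (h₁ : LiftZ F R η₁) (h₂ : LiftZ F R η₂) : LiftZ F R (η₁ * η₂) := by
  obtain ⟨β₁, hβ₁, h11, h12⟩ := h₁
  obtain ⟨β₂, hβ₂, h21, h22⟩ := h₂
  refine ⟨β₁ * β₂, mul_mem hβ₁ hβ₂, fun x => ?_, fun c hc => ?_⟩
  · show ((β₁ (β₂ (Subgroup.inclusion le_sup_left x)) : ↥(R ⊔ centralizerIn S R)) : Ω) =
      ((η₁ (η₂ x) : R) : Ω)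
    have e : β₂ (Subgroup.inclusion le_sup_left x) = Subgroup.inclusion le_sup_left (η₂ x) :=
      Subtype.ext (h21 x)
    rw [e, h11]
  · show (c : Ω)⁻¹ * ((β₁ (β₂ c) : ↥(R ⊔ centralizerIn S R)) : Ω) ∈ zOf R
    have hz2 := h22 c hc
    have e : β₂ c = c * (c⁻¹ * β₂ c) := by group
    rw [e, map_mul]
    have hz2' : (((c⁻¹ * β₂ c : ↥(R ⊔ centralizerIn S R))) : Ω) ∈ zOf R := by
      simpa using hz2
    have h3 := cselzgrp_beta_zOf h11 hz2'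
    have h4 := h12 c hc
    have e2 : (c : Ω)⁻¹ * ((β₁ c * β₁ (c⁻¹ * β₂ c) : ↥(R ⊔ centralizerIn S R)) : Ω) =
        ((c : Ω)⁻¹ * ((β₁ c : ↥(R ⊔ centralizerIn S R)) : Ω)) *
          ((β₁ (c⁻¹ * β₂ c) : ↥(R ⊔ centralizerIn S R)) : Ω) := by
      rw [Subgroup.coe_mul, mul_assoc]
    rw [e2]
    exact mul_mem h4 h3

theorem liftZ_inv (F : FusionSystem S) {R : Subgroup Ω} (hRS : R ≤ S) {η : MulAut R}
    (h : LiftZ F R η) : LiftZ F R η⁻¹ := by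
  obtain ⟨β, hβ, h1, h2⟩ := h
  have hfirst : ∀ x : R, β⁻¹ (Subgroup.inclusion le_sup_left x) =
      Subgroup.inclusion le_sup_left (η⁻¹ x) := by
    intro x
    have e : β (Subgroup.inclusion le_sup_left (η⁻¹ x)) = Subgroup.inclusion le_sup_left x := by
      apply Subtype.ext
      rw [h1]
      show ((η (η⁻¹ x) : R) : Ω) = x
      rw [MulAut.apply_inv_self]
    rw [← e, MulAut.inv_apply_self]
  refine ⟨β⁻¹, inv_mem hβ, fun x => ?_, fun c hc => ?_⟩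
  · rw [hfirst]; rfl
  · have hbc : β (β⁻¹ c) = c := MulAut.apply_inv_self _ β c
    have hc'C : ((β⁻¹ c : ↥(R ⊔ centralizerIn S R)) : Ω) ∈ centralizerIn S R := by
      rw [mem_centralizerIn]
      refine ⟨cselzgrp_sup_le hRS (β⁻¹ c).2, fun r hr => ?_⟩
      have hcr := (mem_centralizerIn.1 hc).2
      have key : (Subgroup.inclusion le_sup_left (⟨r, hr⟩ : R)) * β⁻¹ c =
          β⁻¹ c * (Subgroup.inclusion le_sup_left (⟨r, hr⟩ : R)) := by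
        apply β.injective
        rw [map_mul, map_mul, hbc]
        apply Subtype.ext
        rw [Subgroup.coe_mul, Subgroup.coe_mul, h1]
        exact hcr _ (η ⟨r, hr⟩).2
      exact congrArg Subtype.val key
    have h3 := h2 (β⁻¹ c) hc'C
    rw [hbc] at h3
    have e3 : (c : Ω)⁻¹ * ((β⁻¹ c : ↥(R ⊔ centralizerIn S R)) : Ω) =
        (((β⁻¹ c : ↥(R ⊔ centralizerIn S R)) : Ω)⁻¹ * (c : Ω))⁻¹ := by group
    rw [e3]
    exact inv_mem h3

end Cfsg.Agent.Helper3.CSE
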