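import Mathlib
import Cfsg.Agent.Lib.CSE.CSEDefs
import Cfsg.Agent.Lib.CSE.CSELiftZGrp

/-!
# S5293 piece CSE-LZINN (done by helper15): `Aut_T(R) ⊆ LiftZ` when `T ⊴ S` and `C_T(R) ≤ R`
RECIPE.  `autInducedBy T R` is a closure: `Subgroup.closure_induction` with `liftZ_one/mul/inv`
reduces to a generator `α` with `g ∈ T`, `(α x : Ω) = g * x * g⁻¹` for all `x : R` (so `g` normalizes
`R`: it maps `R` into `R`, and `R` is finite... or simply use that `α` is onto `R`).  `g ∈ S`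
normalizes `R`, hence `C_S(R)`, hence `Q := R ⊔ C_S(R)`: conjugation by `g` is `β ∈ F.autGroup Q`
(`F.conj_mem` + `Helper25.mem_autGroup_iff`; build the `MulAut` from `MulAut.conj g` restricted to
`Q`).  For `c ∈ C_S(R)`: `c⁻¹ * (g c g⁻¹) = (c⁻¹ g c) g⁻¹ ∈ T` by `hTn`, and it centralizes `R`
(both `c` and `g c g⁻¹` do), so it is in `centralizerIn T R ≤ R`, i.e. in `zOf R`.
Aux names: prefix `cselzinn_`.
-/

set_option autoImplicit false

namespace Cfsg.Agent.Helper3.CSE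

open Cfsg Cfsg.FusionSystem Cfsg.Agent.Helper25

variable {Ω : Type*} [Group Ω] {S : Subgroup Ω}

/-- conjugation by an element of `S` normalizing `R` preserves `C_S(R)` -/
theorem cselzinn_conj_cent {R : Subgroup Ω} {h : Ω} (hhS : h ∈ S)
    (hhR : h ∈ Subgroup.normalizer (R : Set Ω)) {c : Ω} (hc : c ∈ centralizerIn S R) :
    h * c * h⁻¹ ∈ centralizerIn S R := by
  refine ⟨S.mul_mem (S.mul_mem hhS hc.1) (S.inv_mem hhS), ?_⟩
  show h * c * h⁻¹ ∈ Subgroup.centralizer (R : Set Ω)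
  rw [Subgroup.mem_centralizer_iff]
  intro r hr
  have hr' : h⁻¹ * r * h ∈ R := by
    have h1 := (Subgroup.mem_normalizer_iff.1 (Subgroup.inv_mem _ hhR) r).1 hr
    simpa using h1
  have hcomm := Subgroup.mem_centralizer_iff.1 hc.2 _ hr'
  calc r * (h * c * h⁻¹) = h * ((h⁻¹ * r * h) * c) * h⁻¹ := by group
    _ = h * (c * (h⁻¹ * r * h)) * h⁻¹ := by rw [hcomm]
    _ = h * c * h⁻¹ * r := by group

theorem liftZ_autInducedBy [Finite S] (F : FusionSystem S) {T R : Subgroup Ω} (hTS : T ≤ S)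
    (hTn : ∀ s ∈ S, ∀ t ∈ T, s * t * s⁻¹ ∈ T) (hRT : R ≤ T) (hcen : centralizerIn T R ≤ R) :
    ∀ α ∈ autInducedBy T R, LiftZ F R α := by
  intro α hα
  obtain ⟨g, hgT, hg⟩ := (Cfsg.Agent.Helper25.mem_autInducedBy_iff α).1 hα
  have hRS : R ≤ S := hRT.trans hTS
  have hgS : g ∈ S := hTS hgT
  -- `g` normalizes `R`
  have hgR : g ∈ Subgroup.normalizer (R : Set Ω) := by
    rw [Subgroup.mem_normalizer_iff]
    intro y
    constructor
    · intro hy
      rw [← hg ⟨y, hy⟩]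
      exact (α ⟨y, hy⟩).2
    · intro hy
      obtain ⟨z, hz⟩ : ∃ z : R, α z = ⟨g * y * g⁻¹, hy⟩ := ⟨α.symm _, α.apply_symm_apply _⟩
      have h1 := hg z
      rw [hz] at h1
      have h1' : g * y * g⁻¹ = g * (z : Ω) * g⁻¹ := h1
      have h2 : y = (z : Ω) := mul_left_cancel (mul_right_cancel h1')
      rw [h2]
      exact z.2
  -- `g` normalizes `C_S(R)`
  have hgC : g ∈ Subgroup.normalizer ((centralizerIn S R : Subgroup Ω) : Set Ω) := by
    rw [Subgroup.mem_normalizer_iff]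
    intro c
    constructor
    · exact fun hc => cselzinn_conj_cent hgS hgR hc
    · intro hc
      have h1 := cselzinn_conj_cent (S.inv_mem hgS) (Subgroup.inv_mem _ hgR) hc
      simpa [mul_assoc] using h1
  have hgQ : g ∈ Subgroup.normalizer ((R ⊔ centralizerIn S R : Subgroup Ω) : Set Ω) :=
    Subgroup.normalizer_inf_normalizer_le_normalizer_sup R (centralizerIn S R) ⟨hgR, hgC⟩
  have hQS : R ⊔ centralizerIn S R ≤ S := sup_le hRS inf_le_left
  refine ⟨(R ⊔ centralizerIn S R).normalizerMonoidHom ⟨g, hgQ⟩, ?_, ?_, ?_⟩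
  · rw [Cfsg.Agent.Helper25.mem_autGroup_iff F hQS]
    have h1 := F.conj_mem (P := R ⊔ centralizerIn S R) hQS hgS
    convert h1 using 1
    ext y
    simp [conjHom]
  · intro x
    rw [hg x]
    simp
  · intro c hc
    rw [Subgroup.normalizerMonoidHom_apply_apply_coe]
    show (c : Ω)⁻¹ * (g * (c : Ω) * g⁻¹) ∈ zOf R
    have hcent : (c : Ω)⁻¹ * (g * (c : Ω) * g⁻¹) ∈ Subgroup.centralizer (R : Set Ω) :=
      Subgroup.mul_mem _ (Subgroup.inv_mem _ hc.2) (cselzinn_conj_cent hgS hgR hc).2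
    have hT : (c : Ω)⁻¹ * (g * (c : Ω) * g⁻¹) ∈ T := by
      have h1 := hTn (c : Ω)⁻¹ (S.inv_mem hc.1) g hgT
      rw [inv_inv] at h1
      have h2 := T.mul_mem h1 (T.inv_mem hgT)
      simpa [mul_assoc] using h2
    exact ⟨hcen ⟨hT, hcent⟩, hcent⟩

end Cfsg.Agent.Helper3.CSE
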