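import Mathlib
import Cfsg.Agent.Lib.CSE.CSEDefs
import Cfsg.Agent.Lib.CSE.CSEBasic
import Cfsg.Agent.Lib.CSE.CSELiftZGrp
import Cfsg.Agent.Lib.CSE.CSELiftZConj
import Cfsg.Agent.Lib.CSE.CSELiftZInn
import Cfsg.Agent.Lib.Helper25.FusionSat3
import Cfsg.Agent.Lib.Helper25.FusionInvariant

/-!
# S5293 (assembly, helper3): `bGrp E R ⊆ LiftZ F R` for `R` fully normalized in `F` with `C_T(R) ≤ R`
-/

set_option autoImplicit false

namespace Cfsg.Agent.Helper3.CSE

open Cfsg Cfsg.FusionSystem Cfsg.Agent.Helper25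

variable {Ω : Type*} [Group Ω] {S : Subgroup Ω}

theorem normal_of_stronglyClosed {F : FusionSystem S} {T : Subgroup Ω} (hT : F.StronglyClosed T) :
    ∀ s ∈ S, ∀ t ∈ T, s * t * s⁻¹ ∈ T := by
  intro s hs t ht
  have h := mem_normalizer_of_stronglyClosed hT hs
  exact (Subgroup.mem_normalizer_iff.mp h t).mp ht

theorem bGrp_le_liftZ [Finite S] (p : ℕ) [Fact p.Prime] (hS : IsPGroup p S) (F : FusionSystem S)
    (hF : F.IsSaturated p) {T : Subgroup Ω} (E : FusionSystem T) (hE : E.IsNormalIn F p)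
    {R : Subgroup Ω} (hRT : R ≤ T) (hRfn : F.IsFullyNormalized R)
    (hcen : centralizerIn T R ≤ R) : ∀ η ∈ bGrp E R, LiftZ F R η := by
  have hinv := hE.1.2.2
  have hEF := hinv.1
  have hT := hinv.2.1
  have hTS : T ≤ S := hT.1
  have hRS := hRT.trans hTS
  obtain ⟨-, -, hRrec⟩ := of_fullyNormalized p hS F hF hRfn
  have hTn := normal_of_stronglyClosed hT
  intro η hη
  unfold bGrp at hη
  induction hη using Subgroup.closure_induction with
  | mem ζ hζ =>
    obtain ⟨ξ, hξ, α, hα, rfl⟩ := hζ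
    exact liftZ_conj F hRrec (autGroup_le_of_subsystem E F hEF hTS hRT hξ)
      (liftZ_autInducedBy F hTS hTn hRT hcen α hα)
  | one => exact liftZ_one F hRS
  | mul a b _ _ ha hb => exact liftZ_mul F hRS ha hb
  | inv a _ ha => exact liftZ_inv F hRS ha

end Cfsg.Agent.Helper3.CSE
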