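import Mathlib
import Cfsg.Agent.Lib.CSE.CSEDefs

/-!
# S5293 piece CSE-NORM: an automorphism of `R C_S(R)` in `F` preserving `R` preserves `foc(C_F(R))`
RECIPE.  Write `Q := R ⊔ C_S(R)`, `C := C_S(R)`.  `β` is injective and maps `R` into `R`, `R` finite,
so `β` maps `R` ONTO `R`; hence `β` and `β⁻¹` map `C` into `C` (values are in `Q ≤ S`, and
`β c` centralizes `β R = R`).  `focC F R` is a closure and `β` is a hom: `Subgroup.closure_induction`
reduces to a generator `y = x⁻¹ * φ x`, `x ∈ P ≤ C`, `φ ∈ F.centralizerHom R P` with extension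
`ψ ∈ F.Hom (P ⊔ R)` fixing `R`.  Put `P' := β(P)` (`(P.subgroupOf Q).map ...`) and
`φ' := β ∘ φ ∘ β⁻¹ : P' →* Ω`.  Then `φ' ∈ F.centralizerHom R P'`: it is a map of `F` (composition of
maps of `F`; `ψ` has values in `Q` since `ψ P = φ P ≤ C` and `ψ R = R`), source and values in `C`,
and `β ∘ ψ ∘ β⁻¹` on `β(P ⊔ R) = P' ⊔ R` extends it and fixes `R` elementwise.
Finally `β y = (β x)⁻¹ * φ' (β x)` is a generator.  Aux names: prefix `csenorm_`.
-/

set_option autoImplicit false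

namespace Cfsg.Agent.Helper3.CSE

open Cfsg Cfsg.FusionSystem Cfsg.Agent.Helper25

variable {Ω : Type*} [Group Ω] {S : Subgroup Ω}

/-- the image of `A ≤ Q` under `β`, as a subgroup of `Ω` -/
def csenorm_img {Q : Subgroup Ω} (β : MulAut ↥Q) (A : Subgroup Ω) : Subgroup Ω :=
  (A.subgroupOf Q).map (Q.subtype.comp β.toMonoidHom)

theorem csenorm_mem_img {Q : Subgroup Ω} (β : MulAut ↥Q) (A : Subgroup Ω) {w : Ω} :
    w ∈ csenorm_img β A ↔ ∃ u : ↥Q, (u : Ω) ∈ A ∧ ((β u : ↥Q) : Ω) = w := by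
  unfold csenorm_img
  constructor
  · rintro ⟨u, hu, rfl⟩
    exact ⟨u, Subgroup.mem_subgroupOf.mp hu, rfl⟩
  · rintro ⟨u, hu, rfl⟩
    exact ⟨u, Subgroup.mem_subgroupOf.mpr hu, rfl⟩

theorem csenorm_img_le {Q : Subgroup Ω} (β : MulAut ↥Q) (A : Subgroup Ω) :
    csenorm_img β A ≤ Q := by
  intro w hw
  obtain ⟨u, -, rfl⟩ := (csenorm_mem_img β A).mp hw
  exact (β u).2

theorem csenorm_symm_mem {Q : Subgroup Ω} (β : MulAut ↥Q) (A : Subgroup Ω) {w : Ω}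
    (hw : w ∈ csenorm_img β A) :
    ((β.symm ⟨w, csenorm_img_le β A hw⟩ : ↥Q) : Ω) ∈ A := by
  obtain ⟨u, hu, rfl⟩ := (csenorm_mem_img β A).mp hw
  have : β.symm ⟨((β u : ↥Q) : Ω), csenorm_img_le β A hw⟩ = u := by
    have : (⟨((β u : ↥Q) : Ω), csenorm_img_le β A hw⟩ : ↥Q) = β u := Subtype.ext rfl
    rw [this]; simp
  rw [this]; exact hu

/-- the conjugate `β ∘ χ ∘ β⁻¹` of a map `χ` with source `A` and values in `Q` -/
noncomputable def csenorm_conj {Q : Subgroup Ω} (β : MulAut ↥Q) (A : Subgroup Ω) (χ : A →* Ω)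
    (hχQ : ∀ a : A, χ a ∈ Q) : ↥(csenorm_img β A) →* Ω :=
  (Q.subtype.comp β.toMonoidHom).comp ((χ.codRestrict Q hχQ).comp
    (((Q.subtype.comp β.symm.toMonoidHom).comp
      (Subgroup.inclusion (csenorm_img_le β A))).codRestrict A
        (fun w => csenorm_symm_mem β A w.2)))

theorem csenorm_conj_apply {Q : Subgroup Ω} (β : MulAut ↥Q) (A : Subgroup Ω) (χ : A →* Ω)
    (hχQ : ∀ a : A, χ a ∈ Q) (w : ↥(csenorm_img β A)) :
    csenorm_conj β A χ hχQ w =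
      ((β ⟨χ ⟨((β.symm ⟨(w : Ω), csenorm_img_le β A w.2⟩ : ↥Q) : Ω), csenorm_symm_mem β A w.2⟩,
        hχQ _⟩ : ↥Q) : Ω) := rfl

theorem csenorm_conj_mem (F : FusionSystem S) {Q : Subgroup Ω} (hQS : Q ≤ S) (β : MulAut ↥Q)
    (hβ : β ∈ F.autGroup Q) (A : Subgroup Ω) (χ : A →* Ω) (hχ : χ ∈ F.Hom A)
    (hχQ : ∀ a : A, χ a ∈ Q) : csenorm_conj β A χ hχQ ∈ F.Hom (csenorm_img β A) := by
  have hb : Q.subtype.comp β.toMonoidHom ∈ F.Hom Q := (mem_autGroup_iff F hQS β).mp hβ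
  have hbi : Q.subtype.comp (β⁻¹ : MulAut ↥Q).toMonoidHom ∈ F.Hom Q :=
    (mem_autGroup_iff F hQS β⁻¹).mp ((F.autGroup Q).inv_mem hβ)
  have h1 := restrict_mem F (csenorm_img_le β A) hbi
  have h3 : (Q.subtype.comp ((χ.codRestrict Q hχQ).comp
    (((Q.subtype.comp β.symm.toMonoidHom).comp
      (Subgroup.inclusion (csenorm_img_le β A))).codRestrict A
        (fun w => csenorm_symm_mem β A w.2)))) ∈ F.Hom (csenorm_img β A) := by
    refine comp_mem' F h1 hχ (fun w => csenorm_symm_mem β A w.2) (fun w => ?_)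
    rfl
  refine comp_mem' F h3 hb (fun w => hχQ _) (fun w => ?_)
  rfl


theorem csenorm_conj_apply_img {Q : Subgroup Ω} (β : MulAut ↥Q) (A : Subgroup Ω) (χ : A →* Ω)
    (hχQ : ∀ a : A, χ a ∈ Q) (u : ↥Q) (hu : (u : Ω) ∈ A)
    (hw : ((β u : ↥Q) : Ω) ∈ csenorm_img β A) :
    csenorm_conj β A χ hχQ ⟨((β u : ↥Q) : Ω), hw⟩ =
      ((β ⟨χ ⟨(u : Ω), hu⟩, hχQ _⟩ : ↥Q) : Ω) := by
  rw [csenorm_conj_apply]
  have key : ∀ (a a' : ↥A), a = a' →
      ((β ⟨χ a, hχQ a⟩ : ↥Q) : Ω) = ((β ⟨χ a', hχQ a'⟩ : ↥Q) : Ω) := by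
    rintro a a' rfl; rfl
  exact key _ _ (Subtype.ext (by simp))

theorem csenorm_sup_hom_mem {P R : Subgroup Ω} (f : ↥(P ⊔ R) →* Ω) (D : Subgroup Ω)
    (hP : ∀ (a : Ω) (ha : a ∈ P), f ⟨a, (le_sup_left : P ≤ P ⊔ R) ha⟩ ∈ D)
    (hR : ∀ (b : Ω) (hb : b ∈ R), f ⟨b, (le_sup_right : R ≤ P ⊔ R) hb⟩ ∈ D) (x : ↥(P ⊔ R)) :
    f x ∈ D := by
  have h : (⊤ : Subgroup ↥(P ⊔ R)) ≤ D.comap f := by
    rw [← Subgroup.subgroupOf_self (P ⊔ R), Subgroup.subgroupOf_sup le_sup_left le_sup_right]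
    refine sup_le ?_ ?_
    · intro y hy
      exact hP y.1 (Subgroup.mem_subgroupOf.mp hy)
    · intro y hy
      exact hR y.1 (Subgroup.mem_subgroupOf.mp hy)
  exact h (Subgroup.mem_top x)

theorem focC_invariant [Finite S] (F : FusionSystem S) {R : Subgroup Ω} (hRS : R ≤ S)
    (β : MulAut ↥(R ⊔ centralizerIn S R)) (hβ : β ∈ F.autGroup (R ⊔ centralizerIn S R))
    (hβR : ∀ x : ↥(R ⊔ centralizerIn S R), (x : Ω) ∈ R →
      ((β x : ↥(R ⊔ centralizerIn S R)) : Ω) ∈ R) :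
    ∀ y : ↥(R ⊔ centralizerIn S R), (y : Ω) ∈ focC F R →
      ((β y : ↥(R ⊔ centralizerIn S R)) : Ω) ∈ focC F R := by
  have hQS : R ⊔ centralizerIn S R ≤ S := sup_le hRS centralizerIn_le
  have hRQ : R ≤ R ⊔ centralizerIn S R := le_sup_left
  have hCQ : centralizerIn S R ≤ R ⊔ centralizerIn S R := le_sup_right
  have : Finite ↥(R ⊔ centralizerIn S R) :=
    Finite.of_injective (Subgroup.inclusion hQS) (Subgroup.inclusion_injective hQS)
  -- `β` maps `R` onto `R`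
  have hmap : (R.subgroupOf (R ⊔ centralizerIn S R)).map β.toMonoidHom =
      R.subgroupOf (R ⊔ centralizerIn S R) := by
    apply Subgroup.eq_of_le_of_card_ge
    · rintro _ ⟨u, hu, rfl⟩
      exact Subgroup.mem_subgroupOf.mpr (hβR u (Subgroup.mem_subgroupOf.mp hu))
    · rw [Subgroup.card_map_of_injective β.injective]
  have hsurj : ∀ r : Ω, r ∈ R → ∃ u : ↥(R ⊔ centralizerIn S R), (u : Ω) ∈ R ∧
      ((β u : ↥(R ⊔ centralizerIn S R)) : Ω) = r := by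
    intro r hr
    have h1 : (⟨r, hRQ hr⟩ : ↥(R ⊔ centralizerIn S R)) ∈
        R.subgroupOf (R ⊔ centralizerIn S R) := Subgroup.mem_subgroupOf.mpr hr
    rw [← hmap] at h1
    obtain ⟨u, hu, hur⟩ := h1
    exact ⟨u, Subgroup.mem_subgroupOf.mp hu, congrArg Subtype.val hur⟩
  have hsymmR : ∀ r : Ω, ∀ hr : r ∈ R,
      ((β.symm ⟨r, hRQ hr⟩ : ↥(R ⊔ centralizerIn S R)) : Ω) ∈ R := by
    intro r hr
    obtain ⟨u, hu, hur⟩ := hsurj r hr
    have : β.symm ⟨r, hRQ hr⟩ = u := by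
      have : (⟨r, hRQ hr⟩ : ↥(R ⊔ centralizerIn S R)) = β u := Subtype.ext hur.symm
      rw [this]; simp
    rw [this]; exact hu
  -- `β` maps `C_S(R)` into `C_S(R)`
  have hC : ∀ u : ↥(R ⊔ centralizerIn S R), (u : Ω) ∈ centralizerIn S R →
      ((β u : ↥(R ⊔ centralizerIn S R)) : Ω) ∈ centralizerIn S R := by
    intro u hu
    refine mem_centralizerIn.mpr ⟨hQS (β u).2, ?_⟩
    intro r hr
    obtain ⟨u0, hu0, rfl⟩ := hsurj r hr
    have hcomm : u0 * u = u * u0 := by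
      apply Subtype.ext
      have := (mem_centralizerIn.mp hu).2 (u0 : Ω) hu0
      simpa using this
    have h2 : β u0 * β u = β u * β u0 := by rw [← map_mul, ← map_mul, hcomm]
    exact congrArg Subtype.val h2
  have key : ∀ z : Ω, z ∈ focC F R → ∃ hz : z ∈ R ⊔ centralizerIn S R,
      ((β ⟨z, hz⟩ : ↥(R ⊔ centralizerIn S R)) : Ω) ∈ focC F R := by
    intro z hz
    unfold focC at hz
    induction hz using Subgroup.closure_induction with
    | mem z hz =>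
      obtain ⟨P, φ, x, hφ, rfl⟩ := hz
      obtain ⟨hφF, hPC, hφC, ψ, hψF, hψext, hψfix⟩ := hφ
      have hxQ : (x : Ω) ∈ R ⊔ centralizerIn S R := hCQ (hPC x.2)
      have hφxQ : φ x ∈ R ⊔ centralizerIn S R := hCQ (hφC x)
      have hφQ : ∀ a : P, φ a ∈ R ⊔ centralizerIn S R := fun a => hCQ (hφC a)
      refine ⟨Subgroup.mul_mem _ (Subgroup.inv_mem _ hxQ) hφxQ, ?_⟩
      have hsplit : (⟨(x : Ω)⁻¹ * φ x, Subgroup.mul_mem _ (Subgroup.inv_mem _ hxQ) hφxQ⟩ :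
          ↥(R ⊔ centralizerIn S R)) = (⟨(x : Ω), hxQ⟩)⁻¹ * ⟨φ x, hφxQ⟩ := rfl
      rw [hsplit, map_mul, map_inv]
      -- the conjugated map
      have hx'' : ((β ⟨(x : Ω), hxQ⟩ : ↥(R ⊔ centralizerIn S R)) : Ω) ∈ csenorm_img β P :=
        (csenorm_mem_img β P).mpr ⟨⟨(x : Ω), hxQ⟩, x.2, rfl⟩
      -- values of ψ lie in Q
      have hψQ : ∀ a : ↥(P ⊔ R), ψ a ∈ R ⊔ centralizerIn S R := by
        apply csenorm_sup_hom_mem ψ (R ⊔ centralizerIn S R)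
        · intro a ha
          have := hψext ⟨a, ha⟩
          have e : (Subgroup.inclusion (le_sup_left : P ≤ P ⊔ R) ⟨a, ha⟩) =
              (⟨a, (le_sup_left : P ≤ P ⊔ R) ha⟩ : ↥(P ⊔ R)) := rfl
          rw [e] at this
          rw [this]; exact hφQ _
        · intro b hb
          have := hψfix ⟨b, hb⟩
          have e : (Subgroup.inclusion (le_sup_right : R ≤ P ⊔ R) ⟨b, hb⟩) =
              (⟨b, (le_sup_right : R ≤ P ⊔ R) hb⟩ : ↥(P ⊔ R)) := rfl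
          rw [e] at this
          rw [this]; exact hRQ hb
      have hle : csenorm_img β P ⊔ R ≤ csenorm_img β (P ⊔ R) := by
        refine sup_le ?_ ?_
        · intro w hw
          obtain ⟨u, hu, rfl⟩ := (csenorm_mem_img β P).mp hw
          exact (csenorm_mem_img β (P ⊔ R)).mpr ⟨u, (le_sup_left : P ≤ P ⊔ R) hu, rfl⟩
        · intro r hr
          obtain ⟨u, hu, rfl⟩ := hsurj r hr
          exact (csenorm_mem_img β (P ⊔ R)).mpr ⟨u, (le_sup_right : R ≤ P ⊔ R) hu, rfl⟩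
      have hφ' : csenorm_conj β P φ hφQ ∈ F.centralizerHom R (csenorm_img β P) := by
        refine ⟨csenorm_conj_mem F hQS β hβ P φ hφF hφQ, ?_, ?_,
          (csenorm_conj β (P ⊔ R) ψ hψQ).comp (Subgroup.inclusion hle),
          restrict_mem F hle (csenorm_conj_mem F hQS β hβ (P ⊔ R) ψ hψF hψQ), ?_, ?_⟩
        · intro w hw
          obtain ⟨u, hu, rfl⟩ := (csenorm_mem_img β P).mp hw
          exact hC u (hPC hu)
        · rintro ⟨w, hw⟩
          obtain ⟨u, hu, rfl⟩ := (csenorm_mem_img β P).mp hw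
          rw [csenorm_conj_apply_img β P φ hφQ u hu hw]
          exact hC _ (hφC _)
        · rintro ⟨w, hw⟩
          obtain ⟨u, hu, rfl⟩ := (csenorm_mem_img β P).mp hw
          rw [csenorm_conj_apply_img β P φ hφQ u hu hw]
          have hu2 : (u : Ω) ∈ P ⊔ R := (le_sup_left : P ≤ P ⊔ R) hu
          have hw2 : ((β u : ↥(R ⊔ centralizerIn S R)) : Ω) ∈ csenorm_img β (P ⊔ R) :=
            (csenorm_mem_img β (P ⊔ R)).mpr ⟨u, hu2, rfl⟩
          have e1 : ((csenorm_conj β (P ⊔ R) ψ hψQ).comp (Subgroup.inclusion hle))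
              (Subgroup.inclusion (le_sup_left : csenorm_img β P ≤ csenorm_img β P ⊔ R)
                ⟨((β u : ↥(R ⊔ centralizerIn S R)) : Ω), hw⟩) =
              csenorm_conj β (P ⊔ R) ψ hψQ ⟨((β u : ↥(R ⊔ centralizerIn S R)) : Ω), hw2⟩ := rfl
          rw [e1, csenorm_conj_apply_img β (P ⊔ R) ψ hψQ u hu2 hw2]
          have e2 : ψ ⟨(u : Ω), hu2⟩ = φ ⟨(u : Ω), hu⟩ := hψext ⟨(u : Ω), hu⟩
          have key2 : ∀ (a b : Ω) (ha : a ∈ R ⊔ centralizerIn S R)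
              (hb : b ∈ R ⊔ centralizerIn S R), a = b →
              ((β ⟨a, ha⟩ : ↥(R ⊔ centralizerIn S R)) : Ω) =
                ((β ⟨b, hb⟩ : ↥(R ⊔ centralizerIn S R)) : Ω) := by
            rintro a b ha hb rfl; rfl
          exact key2 _ _ _ _ e2
        · rintro ⟨r, hr⟩
          obtain ⟨u, hu, hur⟩ := hsurj r hr
          subst hur
          have hu2 : (u : Ω) ∈ P ⊔ R := (le_sup_right : R ≤ P ⊔ R) hu
          have hw2 : ((β u : ↥(R ⊔ centralizerIn S R)) : Ω) ∈ csenorm_img β (P ⊔ R) :=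
            (csenorm_mem_img β (P ⊔ R)).mpr ⟨u, hu2, rfl⟩
          have e1 : ((csenorm_conj β (P ⊔ R) ψ hψQ).comp (Subgroup.inclusion hle))
              (Subgroup.inclusion (le_sup_right : R ≤ csenorm_img β P ⊔ R)
                ⟨((β u : ↥(R ⊔ centralizerIn S R)) : Ω), hr⟩) =
              csenorm_conj β (P ⊔ R) ψ hψQ ⟨((β u : ↥(R ⊔ centralizerIn S R)) : Ω), hw2⟩ := rfl
          rw [e1, csenorm_conj_apply_img β (P ⊔ R) ψ hψQ u hu2 hw2]
          have e2 : ψ ⟨(u : Ω), hu2⟩ = (u : Ω) := hψfix ⟨(u : Ω), hu⟩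
          have key2 : ∀ (a : Ω) (ha : a ∈ R ⊔ centralizerIn S R), a = (u : Ω) →
              ((β ⟨a, ha⟩ : ↥(R ⊔ centralizerIn S R)) : Ω) =
                ((β u : ↥(R ⊔ centralizerIn S R)) : Ω) := by
            rintro a ha rfl; rfl
          exact key2 _ _ e2
      refine Subgroup.subset_closure ⟨csenorm_img β P, csenorm_conj β P φ hφQ,
        ⟨((β ⟨(x : Ω), hxQ⟩ : ↥(R ⊔ centralizerIn S R)) : Ω), hx''⟩, hφ', ?_⟩
      rw [csenorm_conj_apply_img β P φ hφQ ⟨(x : Ω), hxQ⟩ x.2 hx'']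
      rfl
    | one =>
      refine ⟨Subgroup.one_mem _, ?_⟩
      have : (⟨1, Subgroup.one_mem _⟩ : ↥(R ⊔ centralizerIn S R)) = 1 := rfl
      rw [this, map_one]
      exact Subgroup.one_mem _
    | mul a b _ _ ha hb =>
      obtain ⟨ha1, ha2⟩ := ha
      obtain ⟨hb1, hb2⟩ := hb
      refine ⟨Subgroup.mul_mem _ ha1 hb1, ?_⟩
      have : (⟨a * b, Subgroup.mul_mem _ ha1 hb1⟩ : ↥(R ⊔ centralizerIn S R)) =
          ⟨a, ha1⟩ * ⟨b, hb1⟩ := rfl
      rw [this, map_mul]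
      exact Subgroup.mul_mem _ ha2 hb2
    | inv a _ ha =>
      obtain ⟨ha1, ha2⟩ := ha
      refine ⟨Subgroup.inv_mem _ ha1, ?_⟩
      have : (⟨a⁻¹, Subgroup.inv_mem _ ha1⟩ : ↥(R ⊔ centralizerIn S R)) = (⟨a, ha1⟩)⁻¹ := rfl
      rw [this, map_inv]
      exact Subgroup.inv_mem _ ha2
  intro y hy
  obtain ⟨hz, h⟩ := key (y : Ω) hy
  exact h

end Cfsg.Agent.Helper3.CSE
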