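import Mathlib
import Cfsg.Agent.Lib.CSE.CSEDefs
import Cfsg.Agent.Lib.CSE.CSENorm
import Cfsg.Agent.Lib.Helper16.PPowNormal3

/-!
# S5293 piece CSE-AUTTOP: automorphisms of `T` in `F` extend to `T C_S(T)` preserving `focC F T`
RECIPE.  `Helper16.PPowNormal.exists_aut_ext p hS F hF hT γ hγ` gives
`β ∈ F.autGroup (T ⊔ centralizerIn S T)` extending `γ`.  It preserves `T` (for `x` with `(x : Ω) ∈ T`,
`x = Subgroup.inclusion le_sup_left ⟨x, _⟩` and `β x = γ ⟨x, _⟩ ∈ T`), so `focC_invariant`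
(with `R := T`) applies.  Aux names: prefix `cseauttop_`.
-/

set_option autoImplicit false

namespace Cfsg.Agent.Helper3.CSE

open Cfsg Cfsg.FusionSystem Cfsg.Agent.Helper25

variable {Ω : Type*} [Group Ω] {S : Subgroup Ω}

theorem exists_aut_ext_focC [Finite S] (p : ℕ) [Fact p.Prime] (hS : IsPGroup p S)
    (F : FusionSystem S) (hF : F.IsSaturated p) {T : Subgroup Ω} (hT : F.StronglyClosed T)
    (γ : MulAut T) (hγ : γ ∈ F.autGroup T) :
    ∃ β ∈ F.autGroup (T ⊔ centralizerIn S T),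
      (∀ x : T, ((β (Subgroup.inclusion le_sup_left x) : ↥(T ⊔ centralizerIn S T)) : Ω) =
        ((γ x : T) : Ω)) ∧
      ∀ y : ↥(T ⊔ centralizerIn S T), (y : Ω) ∈ focC F T →
        ((β y : ↥(T ⊔ centralizerIn S T)) : Ω) ∈ focC F T := by
  obtain ⟨β, hβ, hβx⟩ := Cfsg.Agent.Helper16.PPowNormal.exists_aut_ext p hS F hF hT γ hγ
  refine ⟨β, hβ, hβx, ?_⟩
  refine focC_invariant F hT.1 β hβ ?_
  intro x hx
  have hxe : x = Subgroup.inclusion le_sup_left (⟨(x : Ω), hx⟩ : T) := Subtype.ext rfl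
  rw [hxe, hβx]
  exact (γ ⟨(x : Ω), hx⟩).2

end Cfsg.Agent.Helper3.CSE
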