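import Mathlib
import Cfsg.Agent.Lib.CSE.CSEDefs
import Cfsg.Agent.Lib.Helper25.FusionInvariant

/-!
# S5293 piece CSE-BTRANS: transporting `bGrp E R` along a map of `F` defined on `N_T(R)`
`φ₁ ∈ F.Hom (N_T(R))` has values in `T` (`T` strongly closed: `hE.1.2.2.2.1`), carries `R` onto
`R'`, and `e : R ≃* R'` is its restriction.  `MulAut.congr e η = e ∘ η ∘ e⁻¹`.
RECIPE.  `map_mem_closure`-style: `(MulAut.congr e)` is a group iso, so it suffices to treat a
generator `ξ * α * ξ⁻¹` (`Subgroup.closure_induction`; the image of a product/inverse is the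
product/inverse of images) and show `MulAut.congr e ξ ∈ E.autGroup R'` and
`MulAut.congr e α ∈ autInducedBy T R'`.
(1) `ξ ∈ E.autGroup R`: `Helper25.strongInv_of_isInvariantIn hE.1.2.2 : StrongInv F E`, applied with
`P := R`, `Q := R` (`R ≤ T`), `φ := R.subtype.comp ξ.toMonoidHom ∈ E.Hom R`
(`Helper25.mem_autGroup_iff`), `ψ := φ₁` restricted to `R` (`Helper25.restrict_mem`), gives
`χ ∈ E.Hom R'` (after identifying the image subgroup with `R'`, `Helper25.hom_transport`) with
`χ (e x) = e (ξ x)`, i.e. `χ = R'.subtype ∘ (MulAut.congr e ξ)`.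
(2) `α ∈ autInducedBy T R` (a closure; again `closure_induction`): generator with `g ∈ T`,
`(α x : Ω) = g * x * g⁻¹`; then `g` normalizes `R` (`α` is onto `R`; for the inverse inclusion use
`α⁻¹`), so `g ∈ normalizerIn T R`, `g' := φ₁ ⟨g, _⟩ ∈ T`, and
`(MulAut.congr e α) (e x) = e (α x) = φ₁ (g x g⁻¹) = g' * e x * g'⁻¹`: a generator of
`autInducedBy T R'`.  Aux names: prefix `csebtrans_`.
-/

set_option autoImplicit false

namespace Cfsg.Agent.Helper3.CSE

open Cfsg Cfsg.FusionSystem Cfsg.Agent.Helper25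

variable {Ω : Type*} [Group Ω] {S : Subgroup Ω}

/-- an element of `T` inducing an automorphism of `R` by conjugation normalizes `R` -/
theorem csebtrans_mem_normalizer {R : Subgroup Ω} {g : Ω} (α : MulAut R)
    (hα : ∀ x : R, ((α x : R) : Ω) = g * (x : Ω) * g⁻¹) :
    g ∈ Subgroup.normalizer (R : Set Ω) := by
  rw [Subgroup.mem_normalizer_iff]
  intro h
  constructor
  · intro hh
    have := hα ⟨h, hh⟩
    rw [← this]
    exact (α ⟨h, hh⟩).2
  · intro hh
    have h1 := hα (α.symm ⟨g * h * g⁻¹, hh⟩)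
    rw [MulEquiv.apply_symm_apply] at h1
    have h2 : h = ((α.symm ⟨g * h * g⁻¹, hh⟩ : R) : Ω) := by
      have h3 : g * h * g⁻¹ = g * ((α.symm ⟨g * h * g⁻¹, hh⟩ : R) : Ω) * g⁻¹ := h1
      exact mul_left_cancel (mul_right_cancel h3)
    rw [h2]
    exact (α.symm ⟨g * h * g⁻¹, hh⟩).2

theorem bGrp_transport [Finite S] (p : ℕ) [Fact p.Prime] (F : FusionSystem S) {T : Subgroup Ω}
    (E : FusionSystem T) (hE : E.IsNormalIn F p) {R R' : Subgroup Ω} (hRT : R ≤ T)
    (φ₁ : ↥(normalizerIn T R) →* Ω) (hφ₁ : φ₁ ∈ F.Hom (normalizerIn T R))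
    (e : R ≃* R')
    (he : ∀ x : R, ((e x : R') : Ω) = φ₁ ⟨(x : Ω), le_normalizerIn hRT x.2⟩) :
    ∀ η ∈ bGrp E R, MulAut.congr e η ∈ bGrp E R' := by
  have hT : F.StronglyClosed T := hE.1.2.2.2.1
  have hSI : StrongInv F E := strongInv_of_isInvariantIn hE.1.2.2
  have hNT : normalizerIn T R ≤ T := inf_le_left
  have hφT : ∀ x : ↥(normalizerIn T R), φ₁ x ∈ T := hT.2 _ hNT φ₁ hφ₁
  have hR'T : R' ≤ T := by
    intro y hy
    have h1 := he (e.symm ⟨y, hy⟩)
    rw [MulEquiv.apply_symm_apply] at h1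
    have h2 : y = φ₁ ⟨((e.symm ⟨y, hy⟩ : R) : Ω), le_normalizerIn hRT (e.symm ⟨y, hy⟩).2⟩ := h1
    rw [h2]
    exact hφT _
  have hcongr : ∀ (η : MulAut R) (y : R'), MulAut.congr e η y = e (η (e.symm y)) :=
    fun η y => rfl
  -- (2) conjugation automorphisms
  have hstep2 : ∀ α ∈ autInducedBy T R, MulAut.congr e α ∈ autInducedBy T R' := by
    have hle : autInducedBy T R ≤ (autInducedBy T R').comap (MulAut.congr e).toMonoidHom := by
      unfold autInducedBy
      rw [Subgroup.closure_le]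
      rintro α ⟨g, hgT, hg⟩
      rw [SetLike.mem_coe, Subgroup.mem_comap]
      show MulAut.congr e α ∈ Subgroup.closure _
      apply Subgroup.subset_closure
      have hgN : g ∈ normalizerIn T R := ⟨hgT, csebtrans_mem_normalizer α hg⟩
      refine ⟨φ₁ ⟨g, hgN⟩, hφT _, ?_⟩
      intro y
      rw [hcongr, he]
      have h1 : (⟨((α (e.symm y) : R) : Ω), le_normalizerIn hRT (α (e.symm y)).2⟩ :
          ↥(normalizerIn T R)) =
          ⟨g, hgN⟩ * ⟨((e.symm y : R) : Ω), le_normalizerIn hRT (e.symm y).2⟩ * ⟨g, hgN⟩⁻¹ :=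
        Subtype.ext (hg (e.symm y))
      rw [h1, map_mul, map_mul, map_inv, ← he, MulEquiv.apply_symm_apply]
    intro α hα
    exact hle hα
  -- (1) automorphisms of `E`
  have hstep1 : ∀ ξ ∈ E.autGroup R, MulAut.congr e ξ ∈ E.autGroup R' := by
    intro ξ hξ
    have hφ : R.subtype.comp ξ.toMonoidHom ∈ E.Hom R := (mem_autGroup_iff E hRT ξ).mp hξ
    have hφQ : ∀ x : R, (R.subtype.comp ξ.toMonoidHom) x ∈ R := fun x => (ξ x).2
    have hψ : φ₁.comp (Subgroup.inclusion (le_normalizerIn hRT)) ∈ F.Hom R :=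
      restrict_mem F (le_normalizerIn hRT) hφ₁
    obtain ⟨χ, hχ, hχv⟩ := hSI R R le_rfl hRT _ hφ hφQ _ hψ
    have hψx : ∀ x : R, (φ₁.comp (Subgroup.inclusion (le_normalizerIn hRT))) x =
        ((e x : R') : Ω) := fun x => (he x).symm
    have hA : R' = (R.subgroupOf R).map (φ₁.comp (Subgroup.inclusion (le_normalizerIn hRT))) := by
      ext y
      constructor
      · intro hy
        refine ⟨e.symm ⟨y, hy⟩, ?_, ?_⟩
        · rw [SetLike.mem_coe, Subgroup.mem_subgroupOf]
          exact (e.symm ⟨y, hy⟩).2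
        · rw [hψx, MulEquiv.apply_symm_apply]
      · rintro ⟨x, -, rfl⟩
        rw [hψx]
        exact (e x).2
    have hχ' := hom_transport E hA hχ
    have heq : R'.subtype.comp (MulAut.congr e ξ).toMonoidHom =
        χ.comp (Subgroup.inclusion hA.le) := by
      ext y
      show ((MulAut.congr e ξ y : R') : Ω) = χ (Subgroup.inclusion hA.le y)
      rw [hcongr]
      have hx : (φ₁.comp (Subgroup.inclusion (le_normalizerIn hRT)))
          (Subgroup.inclusion (le_refl R) (e.symm y)) ∈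
          (R.subgroupOf R).map (φ₁.comp (Subgroup.inclusion (le_normalizerIn hRT))) :=
        ⟨e.symm y, by rw [SetLike.mem_coe, Subgroup.mem_subgroupOf]; exact (e.symm y).2, rfl⟩
      have h1 := hχv (e.symm y) hx
      have h2 : Subgroup.inclusion hA.le y =
          ⟨(φ₁.comp (Subgroup.inclusion (le_normalizerIn hRT)))
            (Subgroup.inclusion (le_refl R) (e.symm y)), hx⟩ := by
        apply Subtype.ext
        show (y : Ω) = (φ₁.comp (Subgroup.inclusion (le_normalizerIn hRT))) (e.symm y)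
        rw [hψx, MulEquiv.apply_symm_apply]
      rw [h2, h1]
      exact (hψx (ξ (e.symm y))).symm
    rw [mem_autGroup_iff E hR'T, heq]
    exact hχ'
  -- assemble
  have hle : bGrp E R ≤ (bGrp E R').comap (MulAut.congr e).toMonoidHom := by
    unfold bGrp
    rw [Subgroup.closure_le]
    rintro ζ ⟨ξ, hξ, α, hα, rfl⟩
    rw [SetLike.mem_coe, Subgroup.mem_comap]
    show MulAut.congr e (ξ * α * ξ⁻¹) ∈ Subgroup.closure _
    rw [map_mul, map_mul, map_inv]
    exact Subgroup.subset_closure ⟨_, hstep1 ξ hξ, _, hstep2 α hα, rfl⟩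
  intro η hη
  exact hle hη

end Cfsg.Agent.Helper3.CSE
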