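import Mathlib
import Cfsg.Agent.Lib.CSE.CSEDefs
import Cfsg.Agent.Lib.Helper25.FusionCentSys

/-!
# S5293 piece CSE-CENTRAL: `Z(R)` is central in the centralizer system `C_F(R)`
RECIPE.  Show `(centSys F R hRS).IsCentral (zOf R)` and conclude with `le_sSup`
(`FusionSystem.center = sSup {Q | IsCentral Q}`).  `zOf R ≤ C_S(R)` is `zOf_le_centralizerIn`.
A map `φ ∈ (centSys F R hRS).Hom P = F.centralizerHom R P` comes with `ψ₀ ∈ F.Hom (P ⊔ R)`
extending `φ` and fixing `R` elementwise.  Take `ψ := ψ₀` restricted to `P ⊔ zOf R ≤ P ⊔ R`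
(`Helper25.restrict_mem`); it is in `F.centralizerHom R (P ⊔ zOf R)`: source and values in `C_S(R)`
(`ψ` maps `P` into `C_S(R)` via `φ` and fixes `zOf R ≤ C_S(R)`; use a `sup` induction), and its
extension to `(P ⊔ zOf R) ⊔ R = P ⊔ R` is `ψ₀` again (transport along the equality of subgroups,
`Helper25.hom_transport`).  Aux names: prefix `csecentral_`.
-/

set_option autoImplicit false

namespace Cfsg.Agent.Helper3.CSE

open Cfsg Cfsg.FusionSystem Cfsg.Agent.Helper25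

variable {Ω : Type*} [Group Ω] {S : Subgroup Ω}

theorem csecentral_isCentral (F : FusionSystem S) {R : Subgroup Ω} (hRS : R ≤ S) :
    (centSys F R hRS).IsCentral (zOf R) := by
  refine ⟨zOf_le_centralizerIn hRS, ?_⟩
  intro P φ hφ'
  have hφc : φ ∈ F.centralizerHom R P := hφ'
  obtain ⟨hφ, hPC, hφC, ψ₀, hψ₀, hψ₀P, hψ₀R⟩ := hφc
  have hle : P ⊔ zOf R ≤ P ⊔ R := sup_le_sup_left (zOf_le R) P
  have heq : (P ⊔ zOf R) ⊔ R = P ⊔ R := by
    apply le_antisymm
    · exact sup_le hle le_sup_right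
    · exact sup_le (le_sup_left.trans le_sup_left) le_sup_right
  have hψ : ψ₀.comp (Subgroup.inclusion hle) ∈ F.Hom (P ⊔ zOf R) := restrict_mem F hle hψ₀
  have hval : ∀ x : ↥(P ⊔ zOf R), (ψ₀.comp (Subgroup.inclusion hle)) x ∈ centralizerIn S R := by
    rintro ⟨z, hz⟩
    have : ∀ hz : z ∈ P ⊔ zOf R,
        (ψ₀.comp (Subgroup.inclusion hle)) ⟨z, hz⟩ ∈ centralizerIn S R := by
      refine sup_induction (C := fun z => ∀ hz : z ∈ P ⊔ zOf R,
        (ψ₀.comp (Subgroup.inclusion hle)) ⟨z, hz⟩ ∈ centralizerIn S R) ?_ ?_ ?_ hz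
      · intro x hx hz
        have e : (ψ₀.comp (Subgroup.inclusion hle)) ⟨x, hz⟩ = φ ⟨x, hx⟩ := hψ₀P ⟨x, hx⟩
        rw [e]
        exact hφC ⟨x, hx⟩
      · intro x hx hz
        have e : (ψ₀.comp (Subgroup.inclusion hle)) ⟨x, hz⟩ = x := hψ₀R ⟨x, zOf_le R hx⟩
        rw [e]
        exact zOf_le_centralizerIn hRS hx
      · intro a b ha hb hCa hCb hab
        have e : (⟨a * b, hab⟩ : ↥(P ⊔ zOf R)) = ⟨a, ha⟩ * ⟨b, hb⟩ := rfl
        rw [e, map_mul]
        exact Subgroup.mul_mem _ (hCa ha) (hCb hb)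
    exact this hz
  refine ⟨ψ₀.comp (Subgroup.inclusion hle), ?_, fun x => hψ₀P x, fun x => hψ₀R ⟨x, zOf_le R x.2⟩⟩
  show ψ₀.comp (Subgroup.inclusion hle) ∈ F.centralizerHom R (P ⊔ zOf R)
  refine ⟨hψ, sup_le hPC (zOf_le_centralizerIn hRS), hval,
    ψ₀.comp (Subgroup.inclusion heq.le), hom_transport F heq hψ₀, fun x => rfl, fun x => hψ₀R x⟩

theorem zOf_le_center_centSys (F : FusionSystem S) {R : Subgroup Ω} (hRS : R ≤ S) :
    zOf R ≤ (centSys F R hRS).center := by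
  unfold FusionSystem.center
  exact le_sSup (csecentral_isCentral F hRS)

end Cfsg.Agent.Helper3.CSE
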