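import Mathlib
import Cfsg.Agent.Lib.CSE.CSEDefs
import Cfsg.Agent.Lib.Helper25.FusionInvariant

/-!
# S5293 piece CSE-CENTRIC: `F`-conjugates of an `E`-centric subgroup of `T` contain their centralizer in `T`
RECIPE.  `hconj`: `φ ∈ F.Hom R` with `φ.range = R'`.  Frattini clause of `hE.1.2.2 : E.IsInvariantIn F`
(fourth component): `α ∈ F.autGroup T`, `φ₀ ∈ E.Hom R` with `φ x = α ⟨φ₀ x, _⟩`.  `R'' := φ₀.range` is
`E`-conjugate to `R`, so `hRc.2 R'' ⟨φ₀, _, rfl⟩ : centralizerIn T R'' ≤ R''`.  `R' = α(R'')`.  For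
`c ∈ centralizerIn T R'`: `c' := α⁻¹ ⟨c, _⟩ ∈ T` centralizes `R''` (apply `α`, injective), so
`c' ∈ R''`, hence `c = α c' ∈ R'`.  Aux names: prefix `csecentric_`.
-/

set_option autoImplicit false

namespace Cfsg.Agent.Helper3.CSE

open Cfsg Cfsg.FusionSystem Cfsg.Agent.Helper25

variable {Ω : Type*} [Group Ω] {S : Subgroup Ω}

theorem centralizerIn_le_of_isConj (p : ℕ) (F : FusionSystem S) {T : Subgroup Ω}
    (E : FusionSystem T) (hE : E.IsNormalIn F p) {R R' : Subgroup Ω} (hRT : R ≤ T)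
    (hRc : E.IsCentric R) (hconj : F.IsConj R R') : centralizerIn T R' ≤ R' := by
  obtain ⟨φ, hφ, hrange⟩ := hconj
  obtain ⟨α, -, φ₀, hφ₀, hφα⟩ := hE.1.2.2.2.2.2 R hRT φ hφ
  have hφ₀T : ∀ x : R, φ₀ x ∈ T := (E.le_of_mem hφ₀).2
  have hcent : centralizerIn T φ₀.range ≤ φ₀.range := hRc.2 φ₀.range ⟨φ₀, hφ₀, rfl⟩
  intro c hc
  rw [mem_centralizerIn] at hc
  obtain ⟨hcT, hccomm⟩ := hc
  -- c' = α⁻¹ c
  obtain ⟨c', hc'⟩ : ∃ c' : T, α c' = ⟨c, hcT⟩ := α.surjective ⟨c, hcT⟩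
  have hc'cent : (c' : Ω) ∈ centralizerIn T φ₀.range := by
    rw [mem_centralizerIn]
    refine ⟨c'.2, ?_⟩
    rintro _ ⟨x, rfl⟩
    -- apply α
    have h1 : ((α ⟨φ₀ x, hφ₀T x⟩ : T) : Ω) = φ x := (hφα x (hφ₀T x)).symm
    have hφR' : φ x ∈ R' := by rw [← hrange]; exact ⟨x, rfl⟩
    have h2 : φ x * c = c * φ x := hccomm (φ x) hφR'
    have h3 : α (⟨φ₀ x, hφ₀T x⟩ * c') = α (c' * ⟨φ₀ x, hφ₀T x⟩) := by
      rw [map_mul, map_mul, hc']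
      apply Subtype.ext
      show ((α ⟨φ₀ x, hφ₀T x⟩ : T) : Ω) * c = c * ((α ⟨φ₀ x, hφ₀T x⟩ : T) : Ω)
      rw [h1]; exact h2
    have h4 := α.injective h3
    exact congrArg Subtype.val h4
  obtain ⟨x, hx⟩ := hcent hc'cent
  rw [← hrange]
  refine ⟨x, ?_⟩
  have h5 : (⟨φ₀ x, hφ₀T x⟩ : T) = c' := Subtype.ext hx
  rw [hφα x (hφ₀T x), h5, hc']

end Cfsg.Agent.Helper3.CSE
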