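import Mathlib
import Cfsg.Agent.Lib.CSE.CSEDefs

/-!
# S5293 piece CSE-COMP: `ExtFix` is closed under composition
`φ̂ ∈ F.Hom (P ⊔ X)` extends `φ` and fixes `X`; `ψ̂ ∈ F.Hom (Q ⊔ X)` extends `ψ` and
fixes `X`.  `φ̂` maps `P ⊔ X` into `Q ⊔ X` (it maps `P` into `Q` and `X` into `X`).  Then
`ψ̂.comp (φ̂.codRestrict (Q ⊔ X) _) ∈ F.Hom (P ⊔ X)` by `F.comp_mem`.  Aux names: prefix `csecomp_`.
-/

set_option autoImplicit false

namespace Cfsg.Agent.Helper3.CSE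

open Cfsg Cfsg.FusionSystem Cfsg.Agent.Helper25

variable {Ω : Type*} [Group Ω] {S : Subgroup Ω}

theorem csecomp_maps {X P Q : Subgroup Ω} {φ : P →* Ω} (φh : ↥(P ⊔ X) →* Ω)
    (h1 : ∀ x : P, φh (Subgroup.inclusion le_sup_left x) = φ x)
    (h2 : ∀ x : X, φh (Subgroup.inclusion le_sup_right x) = x)
    (h : ∀ x : P, φ x ∈ Q) : ∀ z : ↥(P ⊔ X), φh z ∈ Q ⊔ X := by
  have htop : P.subgroupOf (P ⊔ X) ⊔ X.subgroupOf (P ⊔ X) = ⊤ := by
    exact codisjoint_iff.mp (Subgroup.codisjoint_subgroupOf_sup P X)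
  have hle : P.subgroupOf (P ⊔ X) ⊔ X.subgroupOf (P ⊔ X) ≤ (Q ⊔ X).comap φh := by
    apply sup_le
    · intro z hz
      rw [Subgroup.mem_subgroupOf] at hz
      rw [Subgroup.mem_comap]
      have e : z = Subgroup.inclusion le_sup_left ⟨z.1, hz⟩ := Subtype.ext rfl
      rw [e, h1]
      exact (le_sup_left : Q ≤ Q ⊔ X) (h _)
    · intro z hz
      rw [Subgroup.mem_subgroupOf] at hz
      rw [Subgroup.mem_comap]
      have e : z = Subgroup.inclusion le_sup_right ⟨z.1, hz⟩ := Subtype.ext rfl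
      rw [e, h2]
      exact (le_sup_right : X ≤ Q ⊔ X) hz
  intro z
  have hz : z ∈ (⊤ : Subgroup ↥(P ⊔ X)) := Subgroup.mem_top z
  rw [← htop] at hz
  exact hle hz

theorem extFix_comp (F : FusionSystem S) {X P Q : Subgroup Ω} {φ : P →* Ω} {ψ : Q →* Ω}
    (hφ : ExtFix F X P φ) (hψ : ExtFix F X Q ψ) (h : ∀ x : P, φ x ∈ Q) :
    ExtFix F X P (ψ.comp (φ.codRestrict Q h)) := by
  obtain ⟨φh, hφh, hφ1, hφ2⟩ := hφ
  obtain ⟨ψh, hψh, hψ1, hψ2⟩ := hψ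
  have hmaps := csecomp_maps φh hφ1 hφ2 h
  refine ⟨ψh.comp (φh.codRestrict (Q ⊔ X) hmaps), F.comp_mem hφh hψh hmaps, ?_, ?_⟩
  · intro x
    show ψh ⟨φh (Subgroup.inclusion le_sup_left x), hmaps _⟩ = ψ ⟨φ x, h x⟩
    have e : (⟨φh (Subgroup.inclusion le_sup_left x), hmaps _⟩ : ↥(Q ⊔ X))
        = Subgroup.inclusion le_sup_left ⟨φ x, h x⟩ := Subtype.ext (hφ1 x)
    rw [e, hψ1]
  · intro x
    show ψh ⟨φh (Subgroup.inclusion le_sup_right x), hmaps _⟩ = x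
    have e : (⟨φh (Subgroup.inclusion le_sup_right x), hmaps _⟩ : ↥(Q ⊔ X))
        = Subgroup.inclusion le_sup_right x := Subtype.ext (hφ2 x)
    rw [e, hψ2]

end Cfsg.Agent.Helper3.CSE
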