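import Mathlib
import Cfsg.Agent.Lib.CSE.CSEDefs

/-!
# S5293 piece CSE-CONJ: conjugation by elements of `T` and restriction satisfy `ExtFix`
RECIPES.  `extFix_conj`: `ψ := conjHom (P ⊔ X) g ∈ F.Hom` (`F.conj_mem`, `P ⊔ X ≤ S`, `g ∈ S`);
on `X`: `g * x * g⁻¹ = x` since `x ∈ C_S(T)` commutes with `g ∈ T`
(`Helper25.mem_centralizerIn`).
`extFix_restrict`: restrict the extension from `P ⊔ X` to `Q ⊔ X` (`Helper25.restrict_mem`,
`sup_le_sup_right hQP X`).  Aux names: prefix `cseconj_`.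
-/

set_option autoImplicit false

namespace Cfsg.Agent.Helper3.CSE

open Cfsg Cfsg.FusionSystem Cfsg.Agent.Helper25

variable {Ω : Type*} [Group Ω] {S : Subgroup Ω}

theorem extFix_conj (F : FusionSystem S) {T X P : Subgroup Ω} (hTS : T ≤ S)
    (hX : X ≤ centralizerIn S T) (hP : P ≤ T) {g : Ω} (hg : g ∈ T) :
    ExtFix F X P (conjHom P g) := by
  have hXS : X ≤ S := fun x hx => ((mem_centralizerIn.1 (hX hx)).1)
  have hPS : P ≤ S := hP.trans hTS
  refine ⟨conjHom (P ⊔ X) g, F.conj_mem (sup_le hPS hXS) (hTS hg), fun x => rfl, fun x => ?_⟩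
  have hx := (mem_centralizerIn.1 (hX x.2)).2 g hg
  rw [conjHom_apply]
  show g * (x : Ω) * g⁻¹ = x
  rw [hx, mul_inv_cancel_right]

theorem extFix_restrict (F : FusionSystem S) {X P Q : Subgroup Ω} (hQP : Q ≤ P) {φ : P →* Ω}
    (hφ : ExtFix F X P φ) : ExtFix F X Q (φ.comp (Subgroup.inclusion hQP)) := by
  obtain ⟨ψ, hψ, h1, h2⟩ := hφ
  refine ⟨ψ.comp (Subgroup.inclusion (sup_le_sup_right hQP X)),
    restrict_mem F (sup_le_sup_right hQP X) hψ, fun x => ?_, fun x => ?_⟩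
  · have := h1 (Subgroup.inclusion hQP x)
    exact this
  · have := h2 x
    exact this

end Cfsg.Agent.Helper3.CSE
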