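import Mathlib
import Cfsg.Agent.Lib.CSE.CSEDefs
import Cfsg.Agent.Lib.Helper25.FusionSat3
import Cfsg.Agent.Lib.Helper25.FusionAut

/-!
# S5293 piece CSE-EXTN: in a saturated `E` on `T`, an automorphism of a fully normalized `R`
normalizing `Aut_T(R)` extends to `N_T(R)`
RECIPE.  `Helper25.of_fullyNormalized p hT E hEs hRfn` gives `E.IsReceptive R`.
`φ := R.subtype.comp ν.toMonoidHom ∈ E.Hom R` (`Helper25.mem_autGroup_iff`), `φ.range = R`, so
there is `ψ ∈ E.Hom (extender T R φ)` agreeing with `φ` on `R`.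
`normalizerIn T R ≤ extender T R φ` by `Helper25.normalizerIn_le_extender` (FusionAut): for
`g ∈ N_T(R)`, `c_g ∈ autInducedBy T R` (generator), so `ν * c_g * ν⁻¹ ∈ autInducedBy T R` by `hnorm`;
`Helper25.mem_autInducedBy_iff` gives `h ∈ T` inducing it, i.e. `ν (g x g⁻¹) = h (ν x) h⁻¹`.
Restrict `ψ` to `normalizerIn T R` (`Helper25.restrict_mem`).  Aux names: prefix `cseextn_`.
-/

set_option autoImplicit false

namespace Cfsg.Agent.Helper3.CSE

open Cfsg Cfsg.FusionSystem Cfsg.Agent.Helper25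

variable {Ω : Type*} [Group Ω]

theorem exists_ext_normalizerIn {T : Subgroup Ω} [Finite T] (p : ℕ) [Fact p.Prime]
    (hT : IsPGroup p T) (E : FusionSystem T) (hEs : E.IsSaturated p) {R : Subgroup Ω}
    (hRfn : E.IsFullyNormalized R) (ν : MulAut R) (hν : ν ∈ E.autGroup R)
    (hnorm : ∀ α ∈ autInducedBy T R, ν * α * ν⁻¹ ∈ autInducedBy T R) :
    ∃ νh ∈ E.Hom (normalizerIn T R), ∀ (x : Ω) (hx : x ∈ R) (hN : x ∈ normalizerIn T R),
      νh ⟨x, hN⟩ = ((ν ⟨x, hx⟩ : R) : Ω) := by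
  obtain ⟨-, -, hrec⟩ := Helper25.of_fullyNormalized p hT E hEs hRfn
  have hRT : R ≤ T := hRfn.1
  have hφ : R.subtype.comp ν.toMonoidHom ∈ E.Hom R := (Helper25.mem_autGroup_iff E hRT ν).1 hν
  have hrange : (R.subtype.comp ν.toMonoidHom).range = R := by
    ext y
    constructor
    · rintro ⟨x, rfl⟩
      exact (ν x).2
    · intro hy
      refine ⟨ν.symm ⟨y, hy⟩, ?_⟩
      show ((ν (ν.symm ⟨y, hy⟩) : R) : Ω) = y
      rw [MulEquiv.apply_symm_apply]
  obtain ⟨ψ, hψ, hψe⟩ := hrec.2 R _ hφ hrange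
  have hle : normalizerIn T R ≤ extender T R (R.subtype.comp ν.toMonoidHom) := by
    apply Helper25.normalizerIn_le_extender
    intro g hg
    have hα : R.normalizerMonoidHom ⟨g, hg.2⟩ ∈ autInducedBy T R :=
      (Helper25.mem_autInducedBy_iff _).mpr ⟨g, hg.1, fun x => rfl⟩
    have h1 := hnorm _ hα
    obtain ⟨h, hhT, hh⟩ := (Helper25.mem_autInducedBy_iff _).mp h1
    refine ⟨h, hhT, fun x hx => ?_⟩
    have h2 := hh (ν x)
    show ((ν ⟨g * (x : Ω) * g⁻¹, hx⟩ : R) : Ω) = h * ((ν x : R) : Ω) * h⁻¹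
    rw [← h2]
    show _ = ((ν ((R.normalizerMonoidHom ⟨g, hg.2⟩) (ν⁻¹ (ν x))) : R) : Ω)
    have h3 : ν⁻¹ (ν x) = x := ν.symm_apply_apply x
    rw [h3]
    rfl
  refine ⟨ψ.comp (Subgroup.inclusion hle), Helper25.restrict_mem E hle hψ, ?_⟩
  intro x hx hN
  exact hψe x hx (hle hN)

end Cfsg.Agent.Helper3.CSE
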