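import Mathlib
import Cfsg.Agent.Lib.CSE.CSEDefs

/-!
# S5293 piece CSE-FOC: basic facts on `focC`
RECIPES.  `focC_le`: `Subgroup.closure_le`; a generator is `x⁻¹ * φ x` with `x ∈ P ≤ C_S(Q)` and
`φ x ∈ C_S(Q)` (second and third clause of `centralizerHom`).
`focC_mono`: enough `F.centralizerHom T P ⊆ F.centralizerHom R P` for `R ≤ T`
(`Subgroup.closure_mono`): `C_S(T) ≤ C_S(R)` (`Subgroup.centralizer_le`), and the extension
`ψ ∈ F.Hom (P ⊔ T)` restricts to `P ⊔ R ≤ P ⊔ T` (`Helper25.restrict_mem`).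
`focalSubgroup_eq_focC`: unfold `focalSubgroup`, rewrite `hD P`.  Aux names: prefix `csefoc_`.
-/

set_option autoImplicit false

namespace Cfsg.Agent.Helper3.CSE

open Cfsg Cfsg.FusionSystem Cfsg.Agent.Helper25

variable {Ω : Type*} [Group Ω] {S : Subgroup Ω}

theorem focC_le (F : FusionSystem S) (Q : Subgroup Ω) : focC F Q ≤ centralizerIn S Q := by
  unfold focC
  rw [Subgroup.closure_le]
  rintro y ⟨P, φ, x, hφ, rfl⟩
  obtain ⟨-, hP, hval, -⟩ := hφ
  exact Subgroup.mul_mem _ (Subgroup.inv_mem _ (hP x.2)) (hval x)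

theorem focC_mono (F : FusionSystem S) {R T : Subgroup Ω} (hRT : R ≤ T) :
    focC F T ≤ focC F R := by
  have hcen : centralizerIn S T ≤ centralizerIn S R := by
    intro g hg
    exact ⟨hg.1, Subgroup.centralizer_le (SetLike.coe_subset_coe.mpr hRT) hg.2⟩
  unfold focC
  apply Subgroup.closure_mono
  rintro y ⟨P, φ, x, hφ, rfl⟩
  refine ⟨P, φ, x, ?_, rfl⟩
  obtain ⟨hF, hP, hval, ψ, hψ, hψP, hψT⟩ := hφ
  refine ⟨hF, le_trans hP hcen, fun z => hcen (hval z), ?_⟩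
  refine ⟨ψ.comp (Subgroup.inclusion (sup_le_sup_left hRT P)),
    restrict_mem F (sup_le_sup_left hRT P) hψ, ?_, ?_⟩
  · intro z
    exact hψP z
  · intro z
    exact hψT ⟨(z : Ω), hRT z.2⟩

theorem focalSubgroup_eq_focC (F : FusionSystem S) (Q : Subgroup Ω)
    (D : FusionSystem (centralizerIn S Q)) (hD : F.IsCentralizerSystem Q D) :
    D.focalSubgroup = focC F Q := by
  unfold FusionSystem.focalSubgroup focC
  congr 1
  ext y
  constructor
  · rintro ⟨P, φ, x, h, rfl⟩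
    refine ⟨P, φ, x, ?_, rfl⟩
    rw [← hD P]
    exact h
  · rintro ⟨P, φ, x, h, rfl⟩
    refine ⟨P, φ, x, ?_, rfl⟩
    rw [hD P]
    exact h

end Cfsg.Agent.Helper3.CSE
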