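import Mathlib
import Cfsg.Prelude.Def_FusionSystem
import Cfsg.Agent.Lib.Helper22.PResidual

/-!
# S5293 piece CSE-GEN: generation of a finite group by a Sylow normalizer and the `p'`-elements of the
normal closure of the Sylow subgroup (pure group theory)
RECIPE.  `B := Subgroup.normalClosure (P : Set A)`, normal, `P ≤ B`.
(1) Frattini: `P` gives a Sylow `p`-subgroup `P_B` of `↥B` (`Sylow.subtype`/`P.subtype` with
`P ≤ B`), and `Sylow.normalizer_sup_eq_top P_B : ((P_B).map B.subtype).normalizer ⊔ B = ⊤`; the mapped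
group is `P`.  So `⊤ = N_A(P) ⊔ B ≤ H` once `B ≤ H`.
(2) `B ≤ H`: in the group `↥B`, `Helper22.sylow_sup_pResidual_eq_top P_B : P_B ⊔ pResidual p ↥B = ⊤`
(`Lib/Helper22/PResidual.lean`); `pResidual p ↥B` is the closure of the elements of order prime to `p`
(Prelude `Cfsg.pResidual`), each of which maps into `H` by `h3` (`orderOf` is preserved by
`B.subtype`, `Subgroup.orderOf_coe`); `P_B` maps into `H` by `h1`.  Map the equality to `A`
(`Subgroup.map_sup`, `Subgroup.map_closure` or a direct `closure_induction`).
Aux names: prefix `csegen_`.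
-/

set_option autoImplicit false

namespace Cfsg.Agent.Helper3.CSE

theorem gen_induction {A : Type*} [Group A] [Finite A] (p : ℕ) [Fact p.Prime] (P : Sylow p A)
    (H : Subgroup A) (h1 : (P : Subgroup A) ≤ H) (h2 : Subgroup.normalizer ((P : Subgroup A) : Set A) ≤ H)
    (h3 : ∀ g ∈ Subgroup.normalClosure ((P : Subgroup A) : Set A), (orderOf g).Coprime p → g ∈ H) :
    H = ⊤ := by
  have hPB : (P : Subgroup A) ≤ Subgroup.normalClosure ((P : Subgroup A) : Set A) :=
    Subgroup.le_normalClosure
  have hBH : Subgroup.normalClosure ((P : Subgroup A) : Set A) ≤ H := by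
    have h4 := Cfsg.Agent.Helper22.sylow_sup_pResidual_eq_top (P.subtype hPB)
    have h5 : ((P.subtype hPB : Sylow p ↥(Subgroup.normalClosure ((P : Subgroup A) : Set A))) :
        Subgroup ↥(Subgroup.normalClosure ((P : Subgroup A) : Set A))) ≤
        H.subgroupOf (Subgroup.normalClosure ((P : Subgroup A) : Set A)) := by
      intro x hx
      rw [Sylow.coe_subtype, Subgroup.mem_subgroupOf] at hx
      rw [Subgroup.mem_subgroupOf]
      exact h1 hx
    have h6 : Cfsg.pResidual p ↥(Subgroup.normalClosure ((P : Subgroup A) : Set A)) ≤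
        H.subgroupOf (Subgroup.normalClosure ((P : Subgroup A) : Set A)) := by
      unfold Cfsg.pResidual
      rw [Subgroup.closure_le]
      intro g hg
      show g ∈ H.subgroupOf (Subgroup.normalClosure ((P : Subgroup A) : Set A))
      rw [Subgroup.mem_subgroupOf]
      apply h3 _ g.2
      rw [Subgroup.orderOf_coe]
      exact hg
    intro b hb
    have h7 : (⟨b, hb⟩ : ↥(Subgroup.normalClosure ((P : Subgroup A) : Set A))) ∈
        H.subgroupOf (Subgroup.normalClosure ((P : Subgroup A) : Set A)) := by
      have h9 : (⟨b, hb⟩ : ↥(Subgroup.normalClosure ((P : Subgroup A) : Set A))) ∈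
          (⊤ : Subgroup ↥(Subgroup.normalClosure ((P : Subgroup A) : Set A))) := Subgroup.mem_top _
      rw [← h4] at h9
      exact (sup_le h5 h6) h9
    exact Subgroup.mem_subgroupOf.1 h7
  have h8 := Sylow.normalizer_sup_eq_top' P hPB
  rw [eq_top_iff, ← h8]
  exact sup_le h2 hBH

end Cfsg.Agent.Helper3.CSE
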