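import Mathlib
import Cfsg.Agent.Lib.CSE.CSEDefs

/-!
# S5293 piece CSE-NC: the normal closure of `Aut_T(R)` inside the group `↥(Aut_E(R))` lies in `bGrp`
`Subgroup.normalClosure s = Subgroup.closure (Group.conjugatesOfSet s)`; an element of
`Group.conjugatesOfSet s` is `ξ * a * ξ⁻¹` with `a ∈ s`, `ξ : ↥(E.autGroup R)`; its coercion is the generator
`(ξ : MulAut R) * (a : MulAut R) * (ξ : MulAut R)⁻¹` of `bGrp E R`.  Aux names: prefix `csenc_`.
-/

set_option autoImplicit false

namespace Cfsg.Agent.Helper3.CSE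

open Cfsg Cfsg.FusionSystem Cfsg.Agent.Helper25

variable {Ω : Type*} [Group Ω]

theorem mem_bGrp_of_mem_normalClosure {T : Subgroup Ω} (E : FusionSystem T) (R : Subgroup Ω)
    (g : ↥(E.autGroup R))
    (hg : g ∈ Subgroup.normalClosure
      (((autInducedBy T R).subgroupOf (E.autGroup R) : Subgroup ↥(E.autGroup R)) :
        Set ↥(E.autGroup R))) :
    (g : MulAut R) ∈ bGrp E R := by
  have hle : Subgroup.normalClosure
      (((autInducedBy T R).subgroupOf (E.autGroup R) : Subgroup ↥(E.autGroup R)) :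
        Set ↥(E.autGroup R)) ≤ (bGrp E R).subgroupOf (E.autGroup R) := by
    unfold Subgroup.normalClosure
    rw [Subgroup.closure_le]
    intro x hx
    rw [Group.mem_conjugatesOfSet_iff] at hx
    obtain ⟨a, ha, hconj⟩ := hx
    rw [isConj_iff] at hconj
    obtain ⟨ξ, hξ⟩ := hconj
    rw [SetLike.mem_coe, Subgroup.mem_subgroupOf]
    apply Subgroup.subset_closure
    refine ⟨(ξ : MulAut R), ξ.2, (a : MulAut R), Subgroup.mem_subgroupOf.mp ha, ?_⟩
    rw [← hξ]
    rfl
  exact Subgroup.mem_subgroupOf.mp (hle hg)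

end Cfsg.Agent.Helper3.CSE
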