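import Mathlib
import Cfsg.Agent.Lib.CSE.CSEDefs

/-!
# S5293 piece CSE-INV: `ExtFix` is closed under inverses
RECIPE.  `φ̂ ∈ F.Hom (P ⊔ X)` extends `φ` and fixes `X`.  `F.inv_mem` gives `χ ∈ F.Hom φ̂.range`
with `χ (φ̂ z) = z`.  `φ̂.range = φ.range ⊔ X` (image of a sup; `≤`: `sup` induction, `≥`: both
generators are hit); transport `χ` along this equality (`Helper25.hom_transport`).  On `φ.range`:
`χ (φ x) = x = ψ (φ x)`; on `X`: `χ x = χ (φ̂ x) = x`.  Aux names: prefix `cseinv_`.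
-/

set_option autoImplicit false

namespace Cfsg.Agent.Helper3.CSE

open Cfsg Cfsg.FusionSystem Cfsg.Agent.Helper25

variable {Ω : Type*} [Group Ω] {S : Subgroup Ω}

theorem extFix_inv (F : FusionSystem S) {X P : Subgroup Ω} {φ : P →* Ω} (hφ : ExtFix F X P φ)
    (ψ : φ.range →* Ω) (hψ : ∀ x : P, ψ ⟨φ x, ⟨x, rfl⟩⟩ = (x : Ω)) :
    ExtFix F X φ.range ψ := by
  obtain ⟨φh, hφh, hP, hX⟩ := hφ
  obtain ⟨χ, hχ, hχinv⟩ := F.inv_mem hφh
  have hle : φ.range ⊔ X ≤ φh.range := by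
    apply sup_le
    · rintro _ ⟨x, rfl⟩
      exact ⟨Subgroup.inclusion le_sup_left x, hP x⟩
    · intro x hx
      exact ⟨Subgroup.inclusion le_sup_right ⟨x, hx⟩, hX ⟨x, hx⟩⟩
  refine ⟨χ.comp (Subgroup.inclusion hle), restrict_mem F hle hχ, ?_, ?_⟩
  · rintro ⟨_, x, rfl⟩
    show χ ⟨φ x, _⟩ = ψ ⟨φ x, _⟩
    rw [hψ x]
    have h1 : (⟨φ x, hle (le_sup_left (a := φ.range) (b := X) ⟨x, rfl⟩)⟩ : φh.range) =
        ⟨φh (Subgroup.inclusion le_sup_left x), ⟨_, rfl⟩⟩ := Subtype.ext (hP x).symm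
    rw [h1, hχinv]
    rfl
  · intro x
    show χ ⟨(x : Ω), _⟩ = x
    have h1 : (⟨(x : Ω), hle (le_sup_right (a := φ.range) (b := X) x.2)⟩ : φh.range) =
        ⟨φh (Subgroup.inclusion le_sup_right x), ⟨_, rfl⟩⟩ := Subtype.ext (hX x).symm
    rw [h1, hχinv]
    rfl

end Cfsg.Agent.Helper3.CSE
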