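import Mathlib
import Cfsg.Agent.Lib.CSE.CSEDefs
import Cfsg.Agent.Lib.CSE.CSEConj
import Cfsg.Agent.Lib.CSE.CSEComp
import Cfsg.Agent.Lib.CSE.CSEInv

/-!
# S5293 piece CSE-SUB: the automorphisms in `Aut_E(R)` with `ExtFix` form a subgroup
RECIPES (replace the three `sorry`s in the structure fields and the one in the lemma; keep the
`carrier`).  `one_mem'`: `ψ := (R ⊔ X).subtype ∈ F.Hom` (`Helper25.subtype_mem`, `R ⊔ X ≤ S`).
`mul_mem'`: `R.subtype.comp (a * b).toMonoidHom =
(R.subtype.comp a.toMonoidHom).comp ((R.subtype.comp b.toMonoidHom).codRestrict R _)` (ext; rfl),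
then `extFix_comp`.
`inv_mem'`: with `φ := R.subtype.comp a.toMonoidHom`, `φ.range = R`; `extFix_inv` gives `ExtFix` for
`ψ : φ.range →* Ω`, `ψ y := a⁻¹ ⟨y, _⟩`; transport along `φ.range = R` (unfold `ExtFix`, use
`Helper25.hom_transport` for `R ⊔ X = φ.range ⊔ X`), or prove a small lemma
`ExtFix F X P φ → P = P' → ...`.
`autInducedBy_le_extFixSub`: `autInducedBy T R` is a closure (`Subgroup.closure_induction` inside
`subgroupOf`: or show `(autInducedBy T R) ≤ (extFixSub ...).map (E.autGroup R).subtype` via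
`Subgroup.closure_le`); a generator `α` with `g ∈ T`, `(α x : Ω) = g * x * g⁻¹` satisfies
`R.subtype.comp α.toMonoidHom = conjHom R g` (ext), then `extFix_conj`.
Aux names: prefix `csesub_`.
-/

set_option autoImplicit false

namespace Cfsg.Agent.Helper3.CSE

open Cfsg Cfsg.FusionSystem Cfsg.Agent.Helper25

variable {Ω : Type*} [Group Ω] {S : Subgroup Ω}

/-- The subgroup of `Aut_E(R)` of automorphisms extending to `R ⊔ X` with `X` fixed. -/
def extFixSub (F : FusionSystem S) {T : Subgroup Ω} (E : FusionSystem T) (X R : Subgroup Ω)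
    (hRS : R ≤ S) (hXS : X ≤ S) : Subgroup ↥(E.autGroup R) where
  carrier := {a | ExtFix F X R (R.subtype.comp (a : MulAut R).toMonoidHom)}
  mul_mem' := by
    intro a b ha hb
    have h : ∀ x : R, (R.subtype.comp (b : MulAut R).toMonoidHom) x ∈ R :=
      fun x => ((b : MulAut R) x).2
    have hc := extFix_comp F hb ha h
    have e : R.subtype.comp ((a * b : ↥(E.autGroup R)) : MulAut R).toMonoidHom =
        (R.subtype.comp (a : MulAut R).toMonoidHom).comp
          ((R.subtype.comp (b : MulAut R).toMonoidHom).codRestrict R h) := by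
      ext x; rfl
    show ExtFix F X R (R.subtype.comp ((a * b : ↥(E.autGroup R)) : MulAut R).toMonoidHom)
    rw [e]
    exact hc
  one_mem' := by
    show ExtFix F X R (R.subtype.comp ((1 : ↥(E.autGroup R)) : MulAut R).toMonoidHom)
    exact ⟨(R ⊔ X).subtype, subtype_mem F (sup_le hRS hXS), fun _ => rfl, fun _ => rfl⟩
  inv_mem' := by
    intro a ha
    have ha' : ExtFix F X R (R.subtype.comp (a : MulAut R).toMonoidHom) := ha
    have hr : (R.subtype.comp (a : MulAut R).toMonoidHom).range = R := by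
      ext y
      constructor
      · rintro ⟨x, rfl⟩
        exact ((a : MulAut R) x).2
      · intro hy
        refine ⟨(a : MulAut R)⁻¹ ⟨y, hy⟩, ?_⟩
        show (((a : MulAut R) ((a : MulAut R)⁻¹ ⟨y, hy⟩) : R) : Ω) = y
        rw [MulAut.apply_inv_self]
    have hinv := extFix_inv F ha'
      ((R.subtype.comp ((a : MulAut R)⁻¹).toMonoidHom).comp (Subgroup.inclusion hr.le))
      (fun x => by
        show ((((a : MulAut R)⁻¹ ((a : MulAut R) x)) : R) : Ω) = x
        rw [MulAut.inv_apply_self])
    have hres := extFix_restrict F hr.ge hinv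
    have e : R.subtype.comp ((a⁻¹ : ↥(E.autGroup R)) : MulAut R).toMonoidHom =
        ((R.subtype.comp ((a : MulAut R)⁻¹).toMonoidHom).comp (Subgroup.inclusion hr.le)).comp
          (Subgroup.inclusion hr.ge) := by
      ext x; rfl
    show ExtFix F X R (R.subtype.comp ((a⁻¹ : ↥(E.autGroup R)) : MulAut R).toMonoidHom)
    rw [e]
    exact hres

theorem mem_extFixSub (F : FusionSystem S) {T : Subgroup Ω} (E : FusionSystem T)
    (X R : Subgroup Ω) (hRS : R ≤ S) (hXS : X ≤ S) (a : ↥(E.autGroup R)) :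
    a ∈ extFixSub F E X R hRS hXS ↔
      ExtFix F X R (R.subtype.comp (a : MulAut R).toMonoidHom) := Iff.rfl

theorem autInducedBy_le_extFixSub (F : FusionSystem S) {T : Subgroup Ω} (E : FusionSystem T)
    {X R : Subgroup Ω} (hTS : T ≤ S) (hX : X ≤ centralizerIn S T) (hRT : R ≤ T) :
    (autInducedBy T R).subgroupOf (E.autGroup R) ≤
      extFixSub F E X R (hRT.trans hTS) (hX.trans centralizerIn_le) := by
  intro a ha
  rw [Subgroup.mem_subgroupOf] at ha
  obtain ⟨g, hgT, hg⟩ := (mem_autInducedBy_iff _).1 ha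
  rw [mem_extFixSub]
  have e : R.subtype.comp (a : MulAut R).toMonoidHom = conjHom R g := by
    ext x; exact hg x
  rw [e]
  exact extFix_conj F hTS hX hRT hgT

end Cfsg.Agent.Helper3.CSE
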