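import Mathlib
import Cfsg.Agent.Lib.CSE.CSEDefs
import Cfsg.Agent.Lib.Helper25.FusionRecept
import Cfsg.Agent.Lib.Helper25.FusionSat

/-!
# S5293 piece CSE-FNMAP: a map `N_S(R) → S` carrying `R` onto a fully normalized conjugate
RECIPE.  `hF R hRS` gives `Q` with `F.IsConj R Q`, `F.IsFullyAutomized p Q`, `F.IsReceptive Q`.
`Helper25.isFullyNormalized_of_fa_receptive` (FusionSat) gives `F.IsFullyNormalized Q`, and
`Helper25.exists_normalizer_map p hS F Q R h₁ h₂ hconj` (FusionRecept) gives the map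
`φ ∈ F.Hom (normalizerIn S R)` with `(R.subgroupOf (normalizerIn S R)).map φ = Q`.
Aux names: prefix `csefnmap_`.
-/

set_option autoImplicit false

namespace Cfsg.Agent.Helper3.CSE

open Cfsg Cfsg.FusionSystem Cfsg.Agent.Helper25

variable {Ω : Type*} [Group Ω] {S : Subgroup Ω}

theorem exists_fn_map [Finite S] (p : ℕ) [Fact p.Prime] (hS : IsPGroup p S) (F : FusionSystem S)
    (hF : F.IsSaturated p) {R : Subgroup Ω} (hRS : R ≤ S) :
    ∃ (R' : Subgroup Ω) (φ : ↥(normalizerIn S R) →* Ω), F.IsFullyNormalized R' ∧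
      φ ∈ F.Hom (normalizerIn S R) ∧ (R.subgroupOf (normalizerIn S R)).map φ = R' := by
  obtain ⟨Q, hconj, hfa, hrec⟩ := hF R hRS
  have hfn : F.IsFullyNormalized Q := isFullyNormalized_of_fa_receptive p hS F hfa hrec
  obtain ⟨φ, hφ, -, -, hmap⟩ := exists_normalizer_map p hS F Q R hfa hrec hconj
  exact ⟨Q, φ, hfn, hφ, hmap⟩

end Cfsg.Agent.Helper3.CSE
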