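import Mathlib

/-!
# S5293 piece CSE-KEY: the coprime-action key lemma (pure group theory, Mathlib only)
RECIPE.  `δ x := x⁻¹ * b x ∈ Z ≤ Z(G)`, so `δ (x*y) = δ x * δ y` (`δ x` is central) and `δ` is a
hom into a commutative group: it kills `commutator G` (`Abelianization.commutator_subset_ker`), i.e.
`b c = c` for `c ∈ commutator G`.  For `x ∈ X`: `d := δ x ∈ X ⊓ Z ≤ commutator G`, so `b d = d`;
by induction `(b ^ k) x = x * d ^ k`; `b ^ m = 1` gives `d ^ m = 1`; `orderOf d` is a power of `p`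
(`hG`) dividing `m`, coprime to `p`: `d = 1`, `b x = x`.  Aux names: prefix `csekey_`.
-/

set_option autoImplicit false

namespace Cfsg.Agent.Helper3.CSE

open scoped commutatorElement

theorem csekey_comm_left {G : Type*} [Group G] {z : G} (hz : z ∈ Subgroup.center G) (g y : G) :
    ⁅g * z, y⁆ = ⁅g, y⁆ := by
  rw [commutatorElement_def, commutatorElement_def, mul_inv_rev]
  have h1 : z * y = y * z := (Subgroup.mem_center_iff.mp hz y).symm
  calc g * z * y * (z⁻¹ * g⁻¹) * y⁻¹ = g * (z * y) * z⁻¹ * g⁻¹ * y⁻¹ := by simp only [mul_assoc]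
    _ = g * (y * z) * z⁻¹ * g⁻¹ * y⁻¹ := by rw [h1]
    _ = g * y * g⁻¹ * y⁻¹ := by simp only [mul_assoc, mul_inv_cancel_left]

theorem csekey_comm_right {G : Type*} [Group G] {z : G} (hz : z ∈ Subgroup.center G) (g h : G) :
    ⁅g, h * z⁆ = ⁅g, h⁆ := by
  rw [commutatorElement_def, commutatorElement_def, mul_inv_rev]
  have h1 : z * g⁻¹ = g⁻¹ * z := (Subgroup.mem_center_iff.mp hz g⁻¹).symm
  calc g * (h * z) * g⁻¹ * (z⁻¹ * h⁻¹) = g * h * (z * g⁻¹) * z⁻¹ * h⁻¹ := by simp only [mul_assoc]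
    _ = g * h * (g⁻¹ * z) * z⁻¹ * h⁻¹ := by rw [h1]
    _ = g * h * g⁻¹ * h⁻¹ := by simp only [mul_assoc, mul_inv_cancel_left]

theorem csekey_fix {G : Type*} [Group G] (b : MulAut G)
    (h : ∀ x : G, x⁻¹ * b x ∈ Subgroup.center G) : ∀ c ∈ commutator G, b c = c := by
  have hle : commutator G ≤ (b.toMonoidHom).eqLocus (MonoidHom.id G) := by
    rw [commutator_def, Subgroup.commutator_le]
    intro g _ y _
    show b ⁅g, y⁆ = ⁅g, y⁆
    rw [map_commutatorElement]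
    have hg : b g = g * (g⁻¹ * b g) := by rw [mul_inv_cancel_left]
    have hy : b y = y * (y⁻¹ * b y) := by rw [mul_inv_cancel_left]
    rw [hg, hy, csekey_comm_left (h g), csekey_comm_right (h y)]
  intro c hc
  exact hle hc

theorem csekey_pow {G : Type*} [Group G] (b : MulAut G) (x d : G) (hbx : b x = x * d)
    (hbd : b d = d) : ∀ k : ℕ, (b ^ k) x = x * d ^ k := by
  intro k
  induction k with
  | zero => rw [pow_zero, pow_zero, mul_one, MulAut.one_apply]
  | succ k ih =>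
    rw [pow_succ', MulAut.mul_apply, ih, map_mul, map_pow, hbd, hbx, pow_succ', mul_assoc]

theorem key6 {G : Type*} [Group G] [Finite G] (p : ℕ) [Fact p.Prime] (hG : IsPGroup p G)
    (b : MulAut G) (m : ℕ) (hm : m.Coprime p) (hbm : b ^ m = 1) (Z X : Subgroup G)
    (hZ : Z ≤ Subgroup.center G) (hδ : ∀ x : G, x⁻¹ * b x ∈ Z) (hbX : ∀ x ∈ X, b x ∈ X)
    (hXZ : X ⊓ Z ≤ commutator G) : ∀ x ∈ X, b x = x := by
  have hp := (Fact.out : p.Prime)
  have hfix := csekey_fix b (fun x => hZ (hδ x))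
  intro x hx
  have hdmem : x⁻¹ * b x ∈ commutator G :=
    hXZ ⟨X.mul_mem (X.inv_mem hx) (hbX x hx), hδ x⟩
  have hbd : b (x⁻¹ * b x) = x⁻¹ * b x := hfix _ hdmem
  have hbx : b x = x * (x⁻¹ * b x) := by rw [mul_inv_cancel_left]
  have hpow := csekey_pow b x (x⁻¹ * b x) hbx hbd m
  rw [hbm, MulAut.one_apply] at hpow
  have hdm : (x⁻¹ * b x) ^ m = 1 := mul_eq_left.mp hpow.symm
  obtain ⟨j, hj⟩ := (IsPGroup.iff_orderOf.mp hG) (x⁻¹ * b x)
  have hdvd : orderOf (x⁻¹ * b x) ∣ m := orderOf_dvd_of_pow_eq_one hdm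
  have hj0 : j = 0 := by
    by_contra hne
    have hpm : p ∣ m := by
      refine dvd_trans ?_ hdvd
      rw [hj]
      exact dvd_pow_self p hne
    have h2 : p ∣ Nat.gcd m p := Nat.dvd_gcd hpm dvd_rfl
    rw [hm] at h2
    exact hp.one_lt.ne' (Nat.dvd_one.mp h2)
  rw [hj0, pow_zero] at hj
  have hd1 : x⁻¹ * b x = 1 := orderOf_eq_one_iff.mp hj
  exact (inv_mul_eq_one.mp hd1).symm

end Cfsg.Agent.Helper3.CSE
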