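import Mathlib
import Cfsg.Agent.Lib.CSE.CSEDefs
import Cfsg.Agent.Lib.CSE.CSEFoc
import Cfsg.Agent.Lib.CSE.CSEKey
import Cfsg.Agent.Lib.CSE.CSECentral
import Cfsg.Agent.Lib.CSE.CSENorm
import Cfsg.Agent.Lib.Helper25.FusionCentSys
import Cfsg.Agent.S5099
import Cfsg.Agent.S5329

/-!
# S5293 piece CSE-KILL: a `p'`-automorphism of `R C_S(R)` with `[C_S(R), β] ≤ Z(R)` fixes `foc(C_F(R))`
RECIPE.  `C := centralizerIn S R`, a finite `p`-group; `D' := centSys F R hRS` is saturated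
(`Cfsg.Agent.S5099.result`, `isCentralizerSystem_centSys`, needs `hR`).  `β` maps `C` into `C`
(`c⁻¹ * β c ∈ zOf R ≤ C`), and so do its powers/inverse: restrict `β` to `b : MulAut ↥C`
(`b ^ m = 1` from `hβm`).  Apply `key6` with `G := ↥C`, `Z := (zOf R).subgroupOf C` (central in `C`:
elements of `zOf R ≤ R` commute with `C`), `X := (focC F R).subgroupOf C`
(`hbX` is `focC_invariant`), and `hXZ`: in `Ω`,
`focC F R ⊓ zOf R ≤ D'.focalSubgroup ⊓ D'.center` (`focalSubgroup_eq_focC`, `zOf_le_center_centSys`)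
`= ⁅C, C⁆ ⊓ D'.center` (`Cfsg.Agent.S5329.result` for `D'`) `≤ ⁅C, C⁆`, and
`(commutator ↥C).map C.subtype = ⁅C, C⁆` (`Subgroup.map_subtype_commutator`).
Conclude for `y ∈ focC F R ≤ C` (`focC_le`).  Aux names: prefix `csekill_`.
-/

set_option autoImplicit false

namespace Cfsg.Agent.Helper3.CSE

open Cfsg Cfsg.FusionSystem Cfsg.Agent.Helper25

variable {Ω : Type*} [Group Ω] {S : Subgroup Ω}

/-- restriction of an automorphism of `Q` mapping the finite subgroup `C ≤ Q` into itself -/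
theorem csekill_restrict {Q C : Subgroup Ω} (hCQ : C ≤ Q) [Finite C] (β : MulAut ↥Q)
    (hβC : ∀ c : ↥Q, (c : Ω) ∈ C → ((β c : ↥Q) : Ω) ∈ C) :
    ∃ b : MulAut ↥C, ∀ (k : ℕ) (c : ↥C),
      (((b ^ k) c : ↥C) : Ω) = (((β ^ k) (Subgroup.inclusion hCQ c) : ↥Q) : Ω) := by
  let f : ↥C →* ↥C :=
    { toFun := fun c => ⟨((β (Subgroup.inclusion hCQ c) : ↥Q) : Ω), hβC _ c.2⟩
      map_one' := by
        apply Subtype.ext
        show ((β (Subgroup.inclusion hCQ 1) : ↥Q) : Ω) = 1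
        rw [map_one, map_one]
        rfl
      map_mul' := fun a c => by
        apply Subtype.ext
        show ((β (Subgroup.inclusion hCQ (a * c)) : ↥Q) : Ω) =
          ((β (Subgroup.inclusion hCQ a) : ↥Q) : Ω) * ((β (Subgroup.inclusion hCQ c) : ↥Q) : Ω)
        rw [map_mul, map_mul]
        rfl }
  have hf : ∀ c : ↥C, ((f c : ↥C) : Ω) = ((β (Subgroup.inclusion hCQ c) : ↥Q) : Ω) := fun c => rfl
  have hinj : Function.Injective f := by
    intro a c hac
    have h1 : ((β (Subgroup.inclusion hCQ a) : ↥Q) : Ω) = ((β (Subgroup.inclusion hCQ c) : ↥Q) : Ω) := by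
      rw [← hf a, ← hf c, hac]
    have h2 : β (Subgroup.inclusion hCQ a) = β (Subgroup.inclusion hCQ c) := Subtype.ext h1
    exact Subgroup.inclusion_injective hCQ (β.injective h2)
  have hsurj : Function.Surjective f := Finite.injective_iff_surjective.mp hinj
  refine ⟨MulEquiv.ofBijective f ⟨hinj, hsurj⟩, ?_⟩
  intro k
  induction k with
  | zero =>
    intro c
    rw [pow_zero, pow_zero, MulAut.one_apply, MulAut.one_apply]
    rfl
  | succ k ih =>
    intro c
    rw [pow_succ', pow_succ', MulAut.mul_apply, MulAut.mul_apply]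
    have h1 : Subgroup.inclusion hCQ (((MulEquiv.ofBijective f ⟨hinj, hsurj⟩) ^ k) c) =
        (β ^ k) (Subgroup.inclusion hCQ c) := Subtype.ext (ih c)
    show ((f (((MulEquiv.ofBijective f ⟨hinj, hsurj⟩) ^ k) c) : ↥C) : Ω) = _
    rw [hf, h1]

theorem kill [Finite S] (p : ℕ) [Fact p.Prime] (hS : IsPGroup p S) (F : FusionSystem S)
    (hF : F.IsSaturated p) {R : Subgroup Ω} (hRS : R ≤ S) (hR : F.IsFullyCentralized R)
    (β : MulAut ↥(R ⊔ centralizerIn S R)) (hβ : β ∈ F.autGroup (R ⊔ centralizerIn S R))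
    (hβR : ∀ x : ↥(R ⊔ centralizerIn S R), (x : Ω) ∈ R →
      ((β x : ↥(R ⊔ centralizerIn S R)) : Ω) ∈ R)
    (hβZ : ∀ c : ↥(R ⊔ centralizerIn S R), (c : Ω) ∈ centralizerIn S R →
      (c : Ω)⁻¹ * ((β c : ↥(R ⊔ centralizerIn S R)) : Ω) ∈ zOf R)
    (m : ℕ) (hm : m.Coprime p) (hβm : β ^ m = 1) :
    ∀ y : ↥(R ⊔ centralizerIn S R), (y : Ω) ∈ focC F R → β y = y := by
  have hCS : centralizerIn S R ≤ S := centralizerIn_le
  have hCQ : centralizerIn S R ≤ R ⊔ centralizerIn S R := le_sup_right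
  have hfinC : Finite ↥(centralizerIn S R) :=
    Finite.of_injective (Subgroup.inclusion hCS) (Subgroup.inclusion_injective hCS)
  have hpC : IsPGroup p ↥(centralizerIn S R) :=
    hS.of_injective (Subgroup.inclusion hCS) (Subgroup.inclusion_injective hCS)
  -- `β` maps `C` into `C`
  have hβC : ∀ c : ↥(R ⊔ centralizerIn S R), (c : Ω) ∈ centralizerIn S R →
      ((β c : ↥(R ⊔ centralizerIn S R)) : Ω) ∈ centralizerIn S R := by
    intro c hc
    have h2 : (c : Ω)⁻¹ * ((β c : ↥(R ⊔ centralizerIn S R)) : Ω) ∈ centralizerIn S R :=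
      zOf_le_centralizerIn hRS (hβZ c hc)
    have h3 := (centralizerIn S R).mul_mem hc h2
    rwa [mul_inv_cancel_left] at h3
  obtain ⟨b, hb⟩ := csekill_restrict hCQ β hβC
  have hb1 : ∀ c : ↥(centralizerIn S R),
      ((b c : ↥(centralizerIn S R)) : Ω) =
        ((β (Subgroup.inclusion hCQ c) : ↥(R ⊔ centralizerIn S R)) : Ω) := by
    intro c
    have := hb 1 c
    rwa [pow_one, pow_one] at this
  have hbm : b ^ m = 1 := by
    ext c
    rw [hb m c, hβm, MulAut.one_apply, MulAut.one_apply]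
    rfl
  -- the saturated centralizer system
  have hD'sat : (centSys F R hRS).IsSaturated p :=
    Cfsg.Agent.S5099.result p hS F hF R hR (centSys F R hRS) (isCentralizerSystem_centSys F R hRS)
  have hfoc : (centSys F R hRS).focalSubgroup = focC F R :=
    focalSubgroup_eq_focC F R (centSys F R hRS) (isCentralizerSystem_centSys F R hRS)
  have h5329 := Cfsg.Agent.S5329.result p hpC (centSys F R hRS) hD'sat
  -- apply the key lemma
  have hkey := key6 p hpC b m hm hbm ((zOf R).subgroupOf (centralizerIn S R))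
    ((focC F R).subgroupOf (centralizerIn S R)) ?_ ?_ ?_ ?_
  · intro y hy
    have hyC : (y : Ω) ∈ centralizerIn S R := focC_le F R hy
    have h1 := hkey ⟨(y : Ω), hyC⟩ (Subgroup.mem_subgroupOf.mpr hy)
    have h2 : ((b ⟨(y : Ω), hyC⟩ : ↥(centralizerIn S R)) : Ω) = (y : Ω) := by rw [h1]
    rw [hb1] at h2
    apply Subtype.ext
    rw [← h2]
    rfl
  · -- `Z(R)` is central in `C`
    intro z hz
    rw [Subgroup.mem_center_iff]
    intro c
    have hzR : (z : Ω) ∈ R := (Subgroup.mem_subgroupOf.mp hz).1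
    have hcR : (c : Ω) ∈ Subgroup.centralizer (R : Set Ω) := c.2.2
    apply Subtype.ext
    show (c : Ω) * (z : Ω) = (z : Ω) * (c : Ω)
    exact (Subgroup.mem_centralizer_iff.mp hcR (z : Ω) hzR).symm
  · intro c
    rw [Subgroup.mem_subgroupOf]
    have h := hβZ (Subgroup.inclusion hCQ c) c.2
    have e : ((c⁻¹ * b c : ↥(centralizerIn S R)) : Ω) =
        ((Subgroup.inclusion hCQ c : ↥(R ⊔ centralizerIn S R)) : Ω)⁻¹ *
          ((β (Subgroup.inclusion hCQ c) : ↥(R ⊔ centralizerIn S R)) : Ω) := by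
      rw [Subgroup.coe_mul, Subgroup.coe_inv, hb1]
      rfl
    rw [e]
    exact h
  · intro c hc
    rw [Subgroup.mem_subgroupOf]
    rw [hb1]
    exact focC_invariant F hRS β hβ hβR (Subgroup.inclusion hCQ c) (Subgroup.mem_subgroupOf.mp hc)
  · rintro x ⟨hxX, hxZ⟩
    have hxf : (x : Ω) ∈ focC F R := Subgroup.mem_subgroupOf.mp hxX
    have hxz : (x : Ω) ∈ zOf R := Subgroup.mem_subgroupOf.mp hxZ
    have hmem : (x : Ω) ∈ (centSys F R hRS).focalSubgroup ⊓ (centSys F R hRS).center :=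
      ⟨hfoc ▸ hxf, zOf_le_center_centSys F hRS hxz⟩
    rw [h5329] at hmem
    have h1 : (x : Ω) ∈ ⁅centralizerIn S R, centralizerIn S R⁆ := hmem.1
    rw [← Subgroup.map_subtype_commutator] at h1
    obtain ⟨w, hw, hwx⟩ := h1
    have : w = x := Subtype.ext hwx
    rwa [← this]

end Cfsg.Agent.Helper3.CSE
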