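import Mathlib
import Cfsg.Agent.Lib.CSE.CSEDefs
import Cfsg.Agent.Lib.CSE.CSELiftZGrp

/-!
# S5293 piece CSE-POW: a `p'`-element with `LiftZ` has a witness of order prime to `p`
RECIPE.  Let `β` be a witness for `η` (`Q := R ⊔ C_S(R)`; `F.autGroup Q ≤ MulAut ↥Q` is finite since
`Q ≤ S` is finite).  `N := orderOf β = p ^ a * m` with `m` coprime to `p`
(`Nat.exists_eq_pow_mul_and_not_dvd`), `n := orderOf η` coprime to `p`, hence to `p ^ a`: choose `j`
with `p ^ a * j ≡ 1 [MOD n]` (`Nat.exists_mul_emod_eq_one_of_coprime` or `ZMod` inverse) and put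
`k := p ^ a * j`, `β' := β ^ k`.  Then `β' ^ m = (β ^ N) ^ j = 1`, `β'` restricted to `R` is
`η ^ k = η` (`pow_eq_pow_mod_orderOf`/`pow_mod_orderOf`), and the two `LiftZ` clauses hold for every
power of `β` (the witness set is closed under products: same computation as `liftZ_mul`, or prove
by induction on `k` "`β ^ k` is a witness for `η ^ k`").  Aux names: prefix `csepow_`.
-/

set_option autoImplicit false

namespace Cfsg.Agent.Helper3.CSE

open Cfsg Cfsg.FusionSystem Cfsg.Agent.Helper25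

variable {Ω : Type*} [Group Ω] {S : Subgroup Ω}

/-- `β` is a witness of `LiftZ F R η`. -/
def csepow_W (F : FusionSystem S) (R : Subgroup Ω) (η : MulAut R)
    (β : MulAut ↥(R ⊔ centralizerIn S R)) : Prop :=
  β ∈ F.autGroup (R ⊔ centralizerIn S R) ∧
    (∀ x : R, ((β (Subgroup.inclusion le_sup_left x) : ↥(R ⊔ centralizerIn S R)) : Ω) =
      ((η x : R) : Ω)) ∧
    ∀ c : ↥(R ⊔ centralizerIn S R), (c : Ω) ∈ centralizerIn S R →
      (c : Ω)⁻¹ * ((β c : ↥(R ⊔ centralizerIn S R)) : Ω) ∈ zOf R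

theorem csepow_W_one (F : FusionSystem S) (R : Subgroup Ω) : csepow_W F R 1 1 := by
  refine ⟨Subgroup.one_mem _, fun x => rfl, fun c _ => ?_⟩
  show (c : Ω)⁻¹ * (c : Ω) ∈ zOf R
  rw [inv_mul_cancel]
  exact Subgroup.one_mem _

/-- an automorphism of `R` preserves `Z(R)` -/
theorem csepow_aut_zOf {R : Subgroup Ω} (η : MulAut R) (r : R) (hr : (r : Ω) ∈ zOf R) :
    ((η r : R) : Ω) ∈ zOf R := by
  refine ⟨(η r).2, ?_⟩
  show ((η r : R) : Ω) ∈ Subgroup.centralizer (R : Set Ω)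
  rw [Subgroup.mem_centralizer_iff]
  intro y hy
  have hy' : (⟨y, hy⟩ : R) = η (η⁻¹ ⟨y, hy⟩) := by simp
  have hcomm : (η⁻¹ ⟨y, hy⟩ : R) * r = r * (η⁻¹ ⟨y, hy⟩ : R) := by
    apply Subtype.ext
    rw [Subgroup.coe_mul, Subgroup.coe_mul]
    exact (Subgroup.mem_centralizer_iff.1 hr.2) _ (η⁻¹ ⟨y, hy⟩ : R).2
  have h2 : (⟨y, hy⟩ : R) * η r = η r * (⟨y, hy⟩ : R) := by
    rw [hy', ← map_mul, ← map_mul, hcomm]
  have h3 := congrArg (fun t : R => (t : Ω)) h2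
  simpa using h3

theorem csepow_W_mul (F : FusionSystem S) (R : Subgroup Ω) {η₁ η₂ : MulAut R}
    {β₁ β₂ : MulAut ↥(R ⊔ centralizerIn S R)} (h₁ : csepow_W F R η₁ β₁)
    (h₂ : csepow_W F R η₂ β₂) : csepow_W F R (η₁ * η₂) (β₁ * β₂) := by
  obtain ⟨hm₁, hr₁, hc₁⟩ := h₁
  obtain ⟨hm₂, hr₂, hc₂⟩ := h₂
  refine ⟨Subgroup.mul_mem _ hm₁ hm₂, fun x => ?_, fun c hc => ?_⟩
  · show ((β₁ (β₂ (Subgroup.inclusion le_sup_left x)) : ↥(R ⊔ centralizerIn S R)) : Ω)
      = ((η₁ (η₂ x) : R) : Ω)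
    have h : β₂ (Subgroup.inclusion le_sup_left x) = Subgroup.inclusion le_sup_left (η₂ x) := by
      apply Subtype.ext
      rw [hr₂ x]
      rfl
    rw [h, hr₁]
  · show (c : Ω)⁻¹ * ((β₁ (β₂ c) : ↥(R ⊔ centralizerIn S R)) : Ω) ∈ zOf R
    have hz₂ := hc₂ c hc
    -- `β₂ c = c * z₂` with `z₂ ∈ Z(R)`
    have hzR : (c : Ω)⁻¹ * ((β₂ c : ↥(R ⊔ centralizerIn S R)) : Ω) ∈ R := zOf_le R hz₂
    have hβ₂c : β₂ c = c * Subgroup.inclusion le_sup_left
        (⟨(c : Ω)⁻¹ * ((β₂ c : ↥(R ⊔ centralizerIn S R)) : Ω), hzR⟩ : R) := by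
      apply Subtype.ext
      rw [Subgroup.coe_mul]
      show ((β₂ c : ↥(R ⊔ centralizerIn S R)) : Ω)
        = (c : Ω) * ((c : Ω)⁻¹ * ((β₂ c : ↥(R ⊔ centralizerIn S R)) : Ω))
      group
    rw [hβ₂c, map_mul, Subgroup.coe_mul, ← mul_assoc]
    refine Subgroup.mul_mem _ (hc₁ c hc) ?_
    rw [hr₁]
    exact csepow_aut_zOf η₁ _ hz₂

theorem csepow_W_pow (F : FusionSystem S) (R : Subgroup Ω) {η : MulAut R}
    {β : MulAut ↥(R ⊔ centralizerIn S R)} (h : csepow_W F R η β) (k : ℕ) :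
    csepow_W F R (η ^ k) (β ^ k) := by
  induction k with
  | zero =>
    rw [pow_zero, pow_zero]
    exact csepow_W_one F R
  | succ k ih =>
    rw [pow_succ, pow_succ]
    exact csepow_W_mul F R ih h

theorem liftZ_coprime [Finite S] (p : ℕ) [Fact p.Prime] (F : FusionSystem S) {R : Subgroup Ω}
    (hRS : R ≤ S) (η : MulAut R) (hη : LiftZ F R η) (hord : (orderOf η).Coprime p) :
    ∃ β ∈ F.autGroup (R ⊔ centralizerIn S R),
      (∀ x : R, ((β (Subgroup.inclusion le_sup_left x) : ↥(R ⊔ centralizerIn S R)) : Ω) =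
        ((η x : R) : Ω)) ∧
      (∀ c : ↥(R ⊔ centralizerIn S R), (c : Ω) ∈ centralizerIn S R →
        (c : Ω)⁻¹ * ((β c : ↥(R ⊔ centralizerIn S R)) : Ω) ∈ zOf R) ∧
      ∃ m : ℕ, m.Coprime p ∧ β ^ m = 1 := by
  have hp : p.Prime := Fact.out
  obtain ⟨β, hβm, hβr, hβc⟩ := hη
  have hW : csepow_W F R η β := ⟨hβm, hβr, hβc⟩
  -- finiteness
  have hQS : R ⊔ centralizerIn S R ≤ S := sup_le hRS inf_le_left
  have hQfin : Finite ↥(R ⊔ centralizerIn S R) :=
    Finite.of_injective (Subgroup.inclusion hQS) (Subgroup.inclusion_injective hQS)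
  have hRfin : Finite ↥R :=
    Finite.of_injective (Subgroup.inclusion hRS) (Subgroup.inclusion_injective hRS)
  have hfinAutQ : Finite (MulAut ↥(R ⊔ centralizerIn S R)) :=
    Finite.of_injective (fun f : MulAut ↥(R ⊔ centralizerIn S R) => (f : ↥(R ⊔ centralizerIn S R) → ↥(R ⊔ centralizerIn S R)))
      (fun f g hfg => MulEquiv.ext (fun x => congrFun hfg x))
  have hfinAutR : Finite (MulAut ↥R) :=
    Finite.of_injective (fun f : MulAut ↥R => (f : ↥R → ↥R))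
      (fun f g hfg => MulEquiv.ext (fun x => congrFun hfg x))
  have hN0 : orderOf β ≠ 0 := (orderOf_pos β).ne'
  have hn0 : 0 < orderOf η := orderOf_pos η
  obtain ⟨a, m, hpm, hNm⟩ := Nat.exists_eq_pow_mul_and_not_dvd hN0 p hp.ne_one
  have hcop : (p ^ a).Coprime (orderOf η) := (Nat.Coprime.pow_right a hord).symm
  have hmod : (p ^ a) ^ (orderOf η).totient ≡ 1 [MOD orderOf η] := Nat.ModEq.pow_totient hcop
  have hφ : 0 < (orderOf η).totient := Nat.totient_pos.2 hn0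
  set k := (p ^ a) ^ (orderOf η).totient with hk
  have hηk : η ^ k = η := by
    have h1 : η ^ k = η ^ 1 := pow_eq_pow_iff_modEq.2 hmod
    rw [h1, pow_one]
  have hWk := csepow_W_pow F R hW k
  rw [hηk] at hWk
  obtain ⟨hm', hr', hc'⟩ := hWk
  refine ⟨β ^ k, hm', hr', hc', m, ?_, ?_⟩
  · exact ((Nat.Prime.coprime_iff_not_dvd hp).2 hpm).symm
  · rw [← pow_mul]
    apply orderOf_dvd_iff_pow_eq_one.1
    rw [hNm, hk]
    have hsplit : (p ^ a) ^ (orderOf η).totient = p ^ a * (p ^ a) ^ ((orderOf η).totient - 1) := by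
      rw [← pow_succ']
      congr 1
      omega
    rw [hsplit]
    exact Dvd.intro ((p ^ a) ^ ((orderOf η).totient - 1)) (by ring)

end Cfsg.Agent.Helper3.CSE
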