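import Mathlib
import Cfsg.Agent.Lib.CSE.CSEDefs
import Cfsg.Agent.Lib.CSE.CSESub
import Cfsg.Agent.Lib.Helper25.FusionRS
import Cfsg.Agent.Lib.Helper22.PResidual

/-!
# S5293 piece CSE-TOP: `Aut_E(T)` is generated by `Inn(T)` and its `p'`-elements
RECIPE.  `A := ↥(E.autGroup T)` (finite: `MulAut ↥T` is finite).  `E` saturated gives
`Helper25.isFullyAutomized_self p E hEs : E.IsFullyAutomized p T`, i.e. a Sylow `P : Sylow p A` with
`(P : Subgroup A) = (autInducedBy T T).subgroupOf (E.autGroup T)`.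
`Helper22.sylow_sup_pResidual_eq_top P : (P : Subgroup A) ⊔ Cfsg.pResidual p A = ⊤`.
`H := extFixSub F E X T hTS _`.  `P ≤ H` by `autInducedBy_le_extFixSub` (with `R := T`).
`pResidual p A ≤ H`: it is the closure of the elements of order prime to `p` (Prelude
`Cfsg.pResidual`), `Subgroup.closure_le`, and for such `a : A`, `orderOf (a : MulAut T) = orderOf a`
(`Subgroup.orderOf_coe`), then `hcop`.  So `H = ⊤`; unfold membership (`mem_extFixSub`).
Aux names: prefix `csetop_`.
-/

set_option autoImplicit false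

namespace Cfsg.Agent.Helper3.CSE

open Cfsg Cfsg.FusionSystem Cfsg.Agent.Helper25

variable {Ω : Type*} [Group Ω] {S : Subgroup Ω}

theorem extFix_top_gen [Finite S] (p : ℕ) [Fact p.Prime] (F : FusionSystem S) {T : Subgroup Ω}
    [Finite T] (E : FusionSystem T) (hEs : E.IsSaturated p) (hTS : T ≤ S) {X : Subgroup Ω}
    (hX : X ≤ centralizerIn S T)
    (hcop : ∀ α ∈ E.autGroup T, (orderOf α).Coprime p →
      ExtFix F X T (T.subtype.comp α.toMonoidHom)) :
    ∀ α ∈ E.autGroup T, ExtFix F X T (T.subtype.comp α.toMonoidHom) := by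
  classical
  have hXS : X ≤ S := hX.trans centralizerIn_le
  obtain ⟨-, P, hP⟩ := Helper25.isFullyAutomized_self p E hEs
  have htop := Cfsg.Agent.Helper22.sylow_sup_pResidual_eq_top P
  have h1 : (P : Subgroup ↥(E.autGroup T)) ≤ extFixSub F E X T hTS hXS := by
    rw [hP]
    exact autInducedBy_le_extFixSub F E hTS hX le_rfl
  have h2 : Cfsg.pResidual p ↥(E.autGroup T) ≤ extFixSub F E X T hTS hXS := by
    unfold Cfsg.pResidual
    rw [Subgroup.closure_le]
    intro a ha
    change Nat.Coprime (orderOf a) p at ha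
    rw [SetLike.mem_coe, mem_extFixSub]
    apply hcop _ a.2
    rw [Subgroup.orderOf_coe]
    exact ha
  have hHtop : extFixSub F E X T hTS hXS = ⊤ := by
    apply top_unique
    rw [← htop]
    exact sup_le h1 h2
  intro α hα
  have hmem : (⟨α, hα⟩ : ↥(E.autGroup T)) ∈ extFixSub F E X T hTS hXS := by
    rw [hHtop]
    trivial
  exact (mem_extFixSub F E X T hTS hXS ⟨α, hα⟩).1 hmem

end Cfsg.Agent.Helper3.CSE
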