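import Mathlib
import Cfsg.Agent.Lib.CSE.CSEDefs
import Cfsg.Agent.Lib.CSE.CSEFoc
import Cfsg.Agent.Lib.CSE.CSEKill
import Cfsg.Agent.Lib.CSE.CSEPow
import Cfsg.Agent.Lib.CSE.CSEBGrp
import Cfsg.Agent.Lib.CSE.CSETop
import Cfsg.Agent.Lib.Helper16.PPowNormal3

/-!
# S5293 (assembly, helper3): from `LiftZ` to `ExtFix`; the fully normalized case and the case `R = T`
-/

set_option autoImplicit false

namespace Cfsg.Agent.Helper3.CSE

open Cfsg Cfsg.FusionSystem Cfsg.Agent.Helper25

variable {Ω : Type*} [Group Ω] {S : Subgroup Ω}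

theorem centralizerIn_anti {R T : Subgroup Ω} (hRT : R ≤ T) :
    centralizerIn S T ≤ centralizerIn S R :=
  inf_le_inf_left S (Subgroup.centralizer_le hRT)

/-- A `p'`-automorphism with `LiftZ` extends to `R ⊔ foc(C_F(T))` fixing `foc(C_F(T))`. -/
theorem extFix_of_liftZ [Finite S] (p : ℕ) [Fact p.Prime] (hS : IsPGroup p S) (F : FusionSystem S)
    (hF : F.IsSaturated p) {T R : Subgroup Ω} (hRT : R ≤ T) (hTS : T ≤ S)
    (hRfc : F.IsFullyCentralized R) (η : MulAut R) (hη : LiftZ F R η)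
    (hord : (orderOf η).Coprime p) :
    ExtFix F (focC F T) R (R.subtype.comp η.toMonoidHom) := by
  have hRS := hRT.trans hTS
  obtain ⟨β, hβ, hβη, hβZ, m, hm, hβm⟩ := liftZ_coprime p F hRS η hη hord
  have hQS : R ⊔ centralizerIn S R ≤ S := sup_le hRS centralizerIn_le
  have hβF := (mem_autGroup_iff F hQS β).mp hβ
  have hβR : ∀ x : ↥(R ⊔ centralizerIn S R), (x : Ω) ∈ R →
      ((β x : ↥(R ⊔ centralizerIn S R)) : Ω) ∈ R := by
    intro x hx
    have h1 : x = Subgroup.inclusion le_sup_left (⟨(x : Ω), hx⟩ : R) := Subtype.ext rfl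
    rw [h1, hβη]
    exact (η _).2
  have hkill := kill p hS F hF hRS hRfc β hβ hβR hβZ m hm hβm
  have hX0 : focC F T ≤ centralizerIn S R := (focC_le F T).trans (centralizerIn_anti hRT)
  have hle : R ⊔ focC F T ≤ R ⊔ centralizerIn S R := sup_le_sup_left hX0 R
  refine ⟨((R ⊔ centralizerIn S R).subtype.comp β.toMonoidHom).comp (Subgroup.inclusion hle),
    restrict_mem F hle hβF, ?_, ?_⟩
  · intro x
    exact hβη x
  · intro x
    have hx : (x : Ω) ∈ focC F R := focC_mono F hRT x.2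
    have h2 := hkill ⟨(x : Ω), hle (le_sup_right (a := R) x.2)⟩ hx
    show ((β ⟨(x : Ω), _⟩ : ↥(R ⊔ centralizerIn S R)) : Ω) = x
    rw [h2]

/-- The fully normalized case. -/
theorem extFix_of_fullyNormalized [Finite S] (p : ℕ) [Fact p.Prime] (hS : IsPGroup p S)
    (F : FusionSystem S) (hF : F.IsSaturated p) {T : Subgroup Ω} (E : FusionSystem T)
    (hE : E.IsNormalIn F p) {R : Subgroup Ω} (hRT : R ≤ T) (hRfn : F.IsFullyNormalized R)
    (hcen : centralizerIn T R ≤ R) (η : MulAut R) (hη : η ∈ bGrp E R)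
    (hord : (orderOf η).Coprime p) :
    ExtFix F (focC F T) R (R.subtype.comp η.toMonoidHom) := by
  have hTS : T ≤ S := hE.1.2.2.2.1.1
  obtain ⟨hRfc, -, -⟩ := of_fullyNormalized p hS F hF hRfn
  exact extFix_of_liftZ p hS F hF hRT hTS hRfc η
    (bGrp_le_liftZ p hS F hF E hE hRT hRfn hcen η hη) hord

/-- The case `R = T`, elements of order prime to `p`. -/
theorem extFix_top_coprime [Finite S] (p : ℕ) [Fact p.Prime] (hS : IsPGroup p S)
    (F : FusionSystem S) (hF : F.IsSaturated p) {T : Subgroup Ω} (E : FusionSystem T)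
    (hE : E.IsNormalIn F p) (α : MulAut T) (hα : α ∈ E.autGroup T)
    (hord : (orderOf α).Coprime p) :
    ExtFix F (focC F T) T (T.subtype.comp α.toMonoidHom) := by
  have hT := hE.1.2.2.2.1
  have hTS : T ≤ S := hT.1
  have hTfn := Cfsg.Agent.Helper16.PPowNormal.isFullyNormalized_of_stronglyClosed F hT
  obtain ⟨hTfc, -, -⟩ := of_fullyNormalized p hS F hF hTfn
  have hL : LiftZ F T α := hE.2 α hα
  exact extFix_of_liftZ p hS F hF le_rfl hTS hTfc α hL hord

/-- The case `R = T`. -/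
theorem extFix_top [Finite S] (p : ℕ) [Fact p.Prime] (hS : IsPGroup p S)
    (F : FusionSystem S) (hF : F.IsSaturated p) {T : Subgroup Ω} (E : FusionSystem T)
    (hE : E.IsNormalIn F p) (α : MulAut T) (hα : α ∈ E.autGroup T) :
    ExtFix F (focC F T) T (T.subtype.comp α.toMonoidHom) := by
  have hTS : T ≤ S := hE.1.2.2.2.1.1
  have : Finite T := finite_of_le_finite hTS
  exact extFix_top_gen p F E hE.1.1 hTS (focC_le F T)
    (fun α hα hord => extFix_top_coprime p hS F hF E hE α hα hord) α hα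

end Cfsg.Agent.Helper3.CSE
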