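import Mathlib
import Cfsg.Agent.Lib.CSE.CSEDefs

/-!
# S5293 piece CSE-PULL (done by helper15): pulling `ExtFix` back along an isomorphism `R ⊔ X → R' ⊔ X` of `F`
RECIPE.  `ψ` is injective with `ψ R = R'`, `ψ X = X`, so `ψ.range = R' ⊔ X` (image of a sup).
`hη'` gives `η̂' ∈ F.Hom (R' ⊔ X)` extending `η'` and fixing `X`; it maps `R' ⊔ X` into itself.
`F.inv_mem hψ` gives `χ ∈ F.Hom ψ.range` with `χ (ψ z) = z`.  The map
`θ z := χ (η̂' (ψ z))` (`z : ↥(R ⊔ X)`; composition of maps of `F`, use `Helper25.comp_mem'` and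
`Helper25.hom_transport` for `ψ.range = R' ⊔ X`) is in `F.Hom (R ⊔ X)`.
On `R`: `η̂' (ψ x) = η' (ψ x) = ψ (η x)` by `hηη'`, and `χ (ψ (η x)) = η x`.
On `X`: `ψ x ∈ X` is fixed by `η̂'`, and `χ (ψ x) = x`.  Aux names: prefix `csepull_`.
-/

set_option autoImplicit false

namespace Cfsg.Agent.Helper3.CSE

open Cfsg Cfsg.FusionSystem Cfsg.Agent.Helper25

variable {Ω : Type*} [Group Ω] {S : Subgroup Ω}

/-- the top subgroup of `A ⊔ B` is the join of the two factors -/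
theorem csepull_top (A B : Subgroup Ω) :
    (⊤ : Subgroup ↥(A ⊔ B)) = A.subgroupOf (A ⊔ B) ⊔ B.subgroupOf (A ⊔ B) := by
  rw [← Subgroup.subgroupOf_sup le_sup_left le_sup_right, Subgroup.subgroupOf_self]

/-- a map on `A ⊔ B` sending `A` into `A'` and `B` into `B'` has values in `A' ⊔ B'` -/
theorem csepull_map_mem {A B A' B' : Subgroup Ω} (f : ↥(A ⊔ B) →* Ω)
    (hA : ∀ a : A, f (Subgroup.inclusion le_sup_left a) ∈ A')
    (hB : ∀ b : B, f (Subgroup.inclusion le_sup_right b) ∈ B') (w : ↥(A ⊔ B)) : f w ∈ A' ⊔ B' := by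
  have h1 : f w ∈ (⊤ : Subgroup ↥(A ⊔ B)).map f := ⟨w, Subgroup.mem_top w, rfl⟩
  rw [csepull_top, Subgroup.map_sup] at h1
  have h3 : Subgroup.map f (A.subgroupOf (A ⊔ B)) ⊔ Subgroup.map f (B.subgroupOf (A ⊔ B)) ≤ A' ⊔ B' := by
    refine sup_le_sup ?_ ?_
    · rw [Subgroup.map_le_iff_le_comap]
      intro z hz
      exact hA ⟨z.1, Subgroup.mem_subgroupOf.1 hz⟩
    · rw [Subgroup.map_le_iff_le_comap]
      intro z hz
      exact hB ⟨z.1, Subgroup.mem_subgroupOf.1 hz⟩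
  exact h3 h1

theorem extFix_pullback [Finite S] (F : FusionSystem S) {X R R' : Subgroup Ω}
    (ψ : ↥(R ⊔ X) →* Ω) (hψ : ψ ∈ F.Hom (R ⊔ X))
    (hψR : (R.subgroupOf (R ⊔ X)).map ψ = R') (hψX : (X.subgroupOf (R ⊔ X)).map ψ = X)
    (η : MulAut R) (η' : MulAut R')
    (hηη' : ∀ (x : R) (h : ψ (Subgroup.inclusion le_sup_left x) ∈ R'),
      ((η' ⟨ψ (Subgroup.inclusion le_sup_left x), h⟩ : R') : Ω) =
        ψ (Subgroup.inclusion le_sup_left (η x)))
    (hη' : ExtFix F X R' (R'.subtype.comp η'.toMonoidHom)) :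
    ExtFix F X R (R.subtype.comp η.toMonoidHom) := by
  have hrange : ψ.range = R' ⊔ X := by
    rw [MonoidHom.range_eq_map, csepull_top, Subgroup.map_sup, hψR, hψX]
  obtain ⟨χ, hχ, hχinv, -⟩ := exists_inv F hψ hrange
  obtain ⟨ηh, hηh, hηhR, hηhX⟩ := hη'
  -- `ψ` maps `R` into `R'` and `X` into `X`
  have hmemR : ∀ x : R, ψ (Subgroup.inclusion le_sup_left x) ∈ R' := by
    intro x
    rw [← hψR]
    exact ⟨Subgroup.inclusion le_sup_left x, Subgroup.mem_subgroupOf.2 x.2, rfl⟩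
  have hmemX : ∀ x : X, ψ (Subgroup.inclusion le_sup_right x) ∈ X := by
    intro x
    have h0 : ψ (Subgroup.inclusion le_sup_right x) ∈ (X.subgroupOf (R ⊔ X)).map ψ :=
      ⟨Subgroup.inclusion le_sup_right x, Subgroup.mem_subgroupOf.2 x.2, rfl⟩
    rwa [hψX] at h0
  have h1 : ∀ z : ↥(R ⊔ X), ψ z ∈ R' ⊔ X := by
    intro z
    rw [← hrange]
    exact ⟨z, rfl⟩
  have h2' : ∀ w : ↥(R' ⊔ X), ηh w ∈ R' ⊔ X := by
    apply csepull_map_mem ηh
    · intro a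
      rw [hηhR a]
      exact (η' a).2
    · intro b
      rw [hηhX b]
      exact b.2
  have hφ1 : ηh.comp (ψ.codRestrict (R' ⊔ X) h1) ∈ F.Hom (R ⊔ X) := F.comp_mem hψ hηh h1
  have h2 : ∀ z : ↥(R ⊔ X), (ηh.comp (ψ.codRestrict (R' ⊔ X) h1)) z ∈ R' ⊔ X := fun z => h2' _
  refine ⟨χ.comp ((ηh.comp (ψ.codRestrict (R' ⊔ X) h1)).codRestrict (R' ⊔ X) h2),
    F.comp_mem hφ1 hχ h2, ?_, ?_⟩
  · intro x
    have e1 : (ψ.codRestrict (R' ⊔ X) h1) (Subgroup.inclusion le_sup_left x) =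
        Subgroup.inclusion le_sup_left (⟨ψ (Subgroup.inclusion le_sup_left x), hmemR x⟩ : R') :=
      Subtype.ext rfl
    have e2 : ηh ((ψ.codRestrict (R' ⊔ X) h1) (Subgroup.inclusion le_sup_left x)) =
        ψ (Subgroup.inclusion le_sup_left (η x)) := by
      rw [e1, hηhR]
      exact hηη' x (hmemR x)
    have e3 : ((ηh.comp (ψ.codRestrict (R' ⊔ X) h1)).codRestrict (R' ⊔ X) h2)
        (Subgroup.inclusion le_sup_left x) =
        ⟨ψ (Subgroup.inclusion le_sup_left (η x)), h1 _⟩ := Subtype.ext e2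
    rw [MonoidHom.comp_apply, e3, hχinv]
    rfl
  · intro x
    have e1 : (ψ.codRestrict (R' ⊔ X) h1) (Subgroup.inclusion le_sup_right x) =
        Subgroup.inclusion le_sup_right (⟨ψ (Subgroup.inclusion le_sup_right x), hmemX x⟩ : X) :=
      Subtype.ext rfl
    have e2 : ηh ((ψ.codRestrict (R' ⊔ X) h1) (Subgroup.inclusion le_sup_right x)) =
        ψ (Subgroup.inclusion le_sup_right x) := by
      rw [e1, hηhX]
    have e3 : ((ηh.comp (ψ.codRestrict (R' ⊔ X) h1)).codRestrict (R' ⊔ X) h2)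
        (Subgroup.inclusion le_sup_right x) =
        ⟨ψ (Subgroup.inclusion le_sup_right x), h1 _⟩ := Subtype.ext e2
    rw [MonoidHom.comp_apply, e3, hχinv]
    rfl

end Cfsg.Agent.Helper3.CSE
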