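import Mathlib
import Cfsg.Agent.Lib.CSE.CSEDefs
import Cfsg.Agent.Lib.CSE.CSEFoc
import Cfsg.Agent.Lib.CSE.CSEBasic
import Cfsg.Agent.Lib.CSE.CSEConj
import Cfsg.Agent.Lib.CSE.CSESub
import Cfsg.Agent.Lib.CSE.CSEGen
import Cfsg.Agent.Lib.CSE.CSEExtN
import Cfsg.Agent.Lib.CSE.CSENC
import Cfsg.Agent.Lib.CSE.CSETransport
import Cfsg.Agent.Lib.Helper25.FusionSat3
import Cfsg.Agent.Lib.Helper25.FusionAut

/-!
# S5293 (assembly, helper3): the essential case
-/

set_option autoImplicit false

namespace Cfsg.Agent.Helper3.CSE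

open Cfsg Cfsg.FusionSystem Cfsg.Agent.Helper25

variable {Ω : Type*} [Group Ω] {S : Subgroup Ω}

theorem extFix_essential [Finite S] (p : ℕ) [Fact p.Prime] (hS : IsPGroup p S)
    (F : FusionSystem S) (hF : F.IsSaturated p) {T : Subgroup Ω} (E : FusionSystem T)
    (hE : E.IsNormalIn F p) {R : Subgroup Ω} (hR : E.IsEssential p R) (hRne : R ≠ T)
    (IH : ∀ (P : Subgroup Ω) (φ : P →* Ω), φ ∈ E.Hom P → Nat.card R < Nat.card P →
      ExtFix F (focC F T) P φ)
    (α : MulAut R) (hα : α ∈ E.autGroup R) :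
    ExtFix F (focC F T) R (R.subtype.comp α.toMonoidHom) := by
  have hinv := hE.1.2.2
  have hT := hinv.2.1
  have hTS : T ≤ S := hT.1
  have hEs := hE.1.1
  have hRc := hR.1
  have hRfn := hR.2.1
  have hRT : R ≤ T := hRfn.1
  have hRS := hRT.trans hTS
  have hfT : Finite T := finite_of_le_finite hTS
  have hfR : Finite R := finite_of_le_finite hRS
  have hTp : IsPGroup p T := hS.to_le hTS
  have hXC : focC F T ≤ centralizerIn S T := focC_le F T
  have hXS : focC F T ≤ S := hXC.trans centralizerIn_le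
  obtain ⟨-, hRfa, -⟩ := of_fullyNormalized p hTp E hEs hRfn
  obtain ⟨-, P, hP⟩ := hRfa
  have hRR₁ : R ≤ normalizerIn T R := le_normalizerIn hRT
  have hcard : Nat.card R < Nat.card (normalizerIn T R) := card_lt_normalizerIn p hTp hRT hRne
  have hfA : Finite ↥(E.autGroup R) := inferInstance
  have htop : extFixSub F E (focC F T) R hRS hXS = ⊤ := by
    apply gen_induction p P
    · rw [hP]
      exact autInducedBy_le_extFixSub F E hTS hXC hRT
    · intro ν hν
      rw [mem_extFixSub]
      have hnorm : ∀ a ∈ autInducedBy T R,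
          (ν : MulAut R) * a * (ν : MulAut R)⁻¹ ∈ autInducedBy T R := by
        intro a ha
        have haE : a ∈ E.autGroup R := autInducedBy_le_autGroup E hRT ha
        have h1 : (⟨a, haE⟩ : ↥(E.autGroup R)) ∈ (P : Subgroup ↥(E.autGroup R)) := by
          rw [hP]
          exact Subgroup.mem_subgroupOf.mpr ha
        have h2 := (Subgroup.mem_normalizer_iff.mp hν ⟨a, haE⟩).mp h1
        rw [hP] at h2
        exact Subgroup.mem_subgroupOf.mp h2
      obtain ⟨νh, hνh, hνhx⟩ :=
        exists_ext_normalizerIn p hTp E hEs hRfn (ν : MulAut R) ν.2 hnorm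
      have h3 := extFix_restrict F hRR₁ (IH (normalizerIn T R) νh hνh hcard)
      have h4 : νh.comp (Subgroup.inclusion hRR₁) =
          R.subtype.comp ((ν : MulAut R)).toMonoidHom := by
        ext x
        exact hνhx (x : Ω) x.2 (hRR₁ x.2)
      rw [← h4]
      exact h3
    · intro g hg hgord
      rw [mem_extFixSub]
      have hg' : (g : MulAut R) ∈ bGrp E R := by
        apply mem_bGrp_of_mem_normalClosure E R g
        rw [← hP]
        exact hg
      have hord : (orderOf (g : MulAut R)).Coprime p := by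
        rw [Subgroup.orderOf_coe]
        exact hgord
      exact extFix_transport p hS F hF E hE hRT hRne hRc IH (g : MulAut R) hg' hord
  have hmem : (⟨α, hα⟩ : ↥(E.autGroup R)) ∈ extFixSub F E (focC F T) R hRS hXS := by
    rw [htop]
    exact Subgroup.mem_top _
  exact (mem_extFixSub F E (focC F T) R hRS hXS ⟨α, hα⟩).mp hmem

end Cfsg.Agent.Helper3.CSE
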