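import Mathlib
import Cfsg.Agent.Lib.CSE.CSEDefs
import Cfsg.Agent.Lib.CSE.CSEFoc
import Cfsg.Agent.Lib.CSE.CSEConj
import Cfsg.Agent.Lib.CSE.CSEComp
import Cfsg.Agent.Lib.CSE.CSEInv
import Cfsg.Agent.Lib.CSE.CSEOfLiftZ
import Cfsg.Agent.Lib.CSE.CSEEss
import Cfsg.Agent.Lib.Helper25.FusionAlperin2

/-!
# S5293 (assembly, helper3): every map of `E` extends to `P ⊔ foc(C_F(T))` fixing `foc(C_F(T))`
-/

set_option autoImplicit false

namespace Cfsg.Agent.Helper3.CSE

open Cfsg Cfsg.FusionSystem Cfsg.Agent.Helper25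

variable {Ω : Type*} [Group Ω] {S : Subgroup Ω}

theorem main_aux [Finite S] (p : ℕ) [Fact p.Prime] (hS : IsPGroup p S) (F : FusionSystem S)
    (hF : F.IsSaturated p) {T : Subgroup Ω} (E : FusionSystem T) (hE : E.IsNormalIn F p) :
    ∀ (d : ℕ) (P : Subgroup Ω) (φ : P →* Ω), φ ∈ E.Hom P → Nat.card T ≤ Nat.card P + d →
      ExtFix F (focC F T) P φ := by
  have hinv := hE.1.2.2
  have hT := hinv.2.1
  have hTS : T ≤ S := hT.1
  have hEs := hE.1.1
  have hfT : Finite T := finite_of_le_finite hTS
  have hTp : IsPGroup p T := hS.to_le hTS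
  have hXC : focC F T ≤ centralizerIn S T := focC_le F T
  intro d
  induction d using Nat.strong_induction_on with
  | _ d IHd =>
    intro P φ hφ
    refine alperin_induction p hTp E hEs
      (fun P φ => Nat.card T ≤ Nat.card P + d → ExtFix F (focC F T) P φ) ?_ ?_ ?_ ?_ hφ
    · intro P g hP hg _
      exact extFix_conj F hTS hXC hP hg
    · intro P Q φ ψ hφ hψ hPφ hPψ h hd
      have hQT : Q ≤ T := (E.le_of_mem hψ).1
      have hfQ : Finite Q := finite_of_le_finite (hQT.trans hTS)
      have hinj : Function.Injective (fun x : P => (⟨φ x, h x⟩ : Q)) := by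
        intro a b hab
        exact E.injective_of_mem hφ (congrArg Subtype.val hab)
      have hPQ : Nat.card P ≤ Nat.card Q := Nat.card_le_card_of_injective _ hinj
      exact extFix_comp F (hPφ hd) (hPψ (by omega)) h
    · intro P φ hφ hPφ ψ _ hψx hd
      have hcard : Nat.card φ.range = Nat.card P :=
        (Nat.card_congr (homEquiv E hφ).toEquiv).symm
      exact extFix_inv F (hPφ (by omega)) ψ hψx
    · intro P hP α hα hd
      by_cases hPT : P = T
      · subst hPT
        exact extFix_top p hS F hF E hE α hα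
      · have hess : E.IsEssential p P := by
          rcases hP with h | h
          · exact absurd h hPT
          · exact h
        have hPle : P ≤ T := hess.2.1.1
        refine extFix_essential p hS F hF E hE hess hPT ?_ α hα
        intro P' φ' hφ' hlt
        have hP'T : P' ≤ T := (E.le_of_mem hφ').1
        have hle : Nat.card P' ≤ Nat.card T := Subgroup.card_le_of_le hP'T
        have hd0 : d ≠ 0 := by
          rintro rfl
          omega
        exact IHd (d - 1) (by omega) P' φ' hφ' (by omega)

theorem main [Finite S] (p : ℕ) [Fact p.Prime] (hS : IsPGroup p S) (F : FusionSystem S)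
    (hF : F.IsSaturated p) {T : Subgroup Ω} (E : FusionSystem T) (hE : E.IsNormalIn F p)
    (P : Subgroup Ω) (φ : P →* Ω) (hφ : φ ∈ E.Hom P) : ExtFix F (focC F T) P φ :=
  main_aux p hS F hF E hE (Nat.card T) P φ hφ (Nat.le_add_left _ _)

end Cfsg.Agent.Helper3.CSE
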